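import Mathlib

set_option autoImplicit false

/-!
Binary actions (relational complexity two): factorisation of products inside point stabilisers,
minimal nontrivial intersections of conjugates, and a sufficient condition.
-/

namespace CfsgLib.Binary

open MulAction (stabilizer)

variable {G : Type*} [Group G]

/-- Pairwise transportable tuples are transportable. -/
def IsBinary (G Ω : Type*) [Group G] [MulAction G Ω] : Prop :=
  ∀ (n : ℕ) (I J : Fin n → Ω), 2 ≤ n →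
    (∀ i j : Fin n, i ≠ j → ∃ g : G, g • I i = J i ∧ g • I j = J j) → ∃ g : G, ∀ i, g • I i = J i

section Action

variable {Ω : Type*} [MulAction G Ω]

theorem IsBinary.exists_map {ι : Type*} [Finite ι] (h : IsBinary G Ω) (I J : ι → Ω)
    (hp : ∀ i j : ι, ∃ g : G, g • I i = J i ∧ g • I j = J j) : ∃ g : G, ∀ i, g • I i = J i := by
  classical
  cases isEmpty_or_nonempty ι
  · exact ⟨1, fun i => isEmptyElim i⟩
  obtain ⟨i0⟩ := ‹Nonempty ι›
  have : Fintype ι := Fintype.ofFinite ι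
  let e := Fintype.equivFin (Option ι)
  let k : Fin (Fintype.card (Option ι)) → ι := fun i => (e.symm i).getD i0
  obtain ⟨g, hg⟩ := h (Fintype.card (Option ι)) (I ∘ k) (J ∘ k)
    (by rw [Fintype.card_option]; exact Nat.succ_le_succ Fintype.card_pos) fun i j _ => hp (k i) (k j)
  exact ⟨g, fun i => by simpa [k] using hg (e (some i))⟩

/-- A product relation among elements of three pointwise stabilisers factors through the intersections. -/
theorem IsBinary.factor [Finite Ω] (h : IsBinary G Ω) (S T U : Set Ω) {a b c : G}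
    (ha : a ∈ fixingSubgroup G S) (hb : b ∈ fixingSubgroup G T) (hc : c ∈ fixingSubgroup G U) (e : a = b * c) :
    ∃ g ∈ fixingSubgroup G (S ∪ T), g⁻¹ * a ∈ fixingSubgroup G U := by
  simp only [mem_fixingSubgroup_iff] at ha hb hc
  obtain ⟨g, hg⟩ := h.exists_map (ι := (↥(S ∪ T) ⊕ ↥U)) (Sum.elim (fun s => (s : Ω)) fun u => (u : Ω))
    (Sum.elim (fun s => (s : Ω)) fun u => a • (u : Ω)) (by
    have key : ∀ (s : ↥(S ∪ T)) (u : U), ∃ g : G, g • (s : Ω) = s ∧ g • (u : Ω) = a • (u : Ω) := by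
      intro s u
      rcases s.2 with hs | hs
      · exact ⟨a, ha s hs, rfl⟩
      · exact ⟨b, hb s hs, by rw [e, mul_smul, hc u u.2]⟩
    rintro (s | u) (s' | u')
    · exact ⟨1, one_smul _ _, one_smul _ _⟩
    · exact key s u'
    · obtain ⟨g, h1, h2⟩ := key s' u
      exact ⟨g, h2, h1⟩
    · exact ⟨a, rfl, rfl⟩)
  refine ⟨g, (mem_fixingSubgroup_iff G).2 fun s hs => hg (Sum.inl ⟨s, hs⟩),
    (mem_fixingSubgroup_iff G).2 fun u hu => ?_⟩
  rw [mul_smul, inv_smul_eq_iff]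
  exact (hg (Sum.inr ⟨u, hu⟩)).symm

/-- A sufficient condition: stabilisers meeting trivially and having no triangles. -/
theorem isBinary_of_no_triangle (htrans : ∀ P Q : Ω, ∃ g : G, g • P = Q)
    (hTI : ∀ P Q : Ω, ∀ a : G, a ≠ 1 → a • P = P → a • Q = Q → stabilizer G P = stabilizer G Q)
    (htri : ∀ P Q R : Ω, ∀ a b : G, a • P = P → b • Q = Q → (a * b) • R = R →
      a = 1 ∨ b = 1 ∨ a * b = 1 ∨ stabilizer G P = stabilizer G Q) :
    IsBinary G Ω := by
  intro n I J hn hp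
  let i0 : Fin n := ⟨0, by omega⟩
  have same : ∀ K : Fin n → Ω, K i0 = I i0 → (∀ i, i ≠ i0 → ∃ g : G, g • I i0 = I i0 ∧ g • I i = K i) →
      ∀ i, stabilizer G (I i) = stabilizer G (I i0) → K i = I i := by
    intro K hK hg i hi
    by_cases e : i = i0
    · rw [e, hK]
    obtain ⟨g, h1, h2⟩ := hg i e
    rw [← h2]
    exact MulAction.mem_stabilizer_iff.1 (hi ▸ MulAction.mem_stabilizer_iff.2 h1)
  obtain ⟨g0, hg0⟩ := htrans (I i0) (J i0)
  let J1 : Fin n → Ω := fun i => g0⁻¹ • J i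
  have h10 : J1 i0 = I i0 := inv_smul_eq_iff.2 hg0.symm
  have hp1 : ∀ i j, i ≠ j → ∃ g : G, g • I i = J1 i ∧ g • I j = J1 j := fun i j hij => by
    obtain ⟨g, h1, h2⟩ := hp i j hij
    exact ⟨g0⁻¹ * g, by rw [mul_smul, h1], by rw [mul_smul, h2]⟩
  have hp10 : ∀ i, i ≠ i0 → ∃ g : G, g • I i0 = I i0 ∧ g • I i = J1 i := fun i hi => by
    obtain ⟨g, h1, h2⟩ := hp1 i0 i (Ne.symm hi)
    exact ⟨g, h1.trans h10, h2⟩
  by_cases hall : ∀ i, stabilizer G (I i) = stabilizer G (I i0)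
  · exact ⟨g0, fun i => by rw [← same J1 h10 hp10 i (hall i), smul_inv_smul]⟩
  push Not at hall
  obtain ⟨i1, hi1⟩ := hall
  have h01 : i1 ≠ i0 := fun e => hi1 (by rw [e])
  obtain ⟨a1, ha1, ha1'⟩ := hp10 i1 h01
  let J2 : Fin n → Ω := fun i => a1⁻¹ • J1 i
  have h20 : J2 i0 = I i0 := inv_smul_eq_iff.2 (h10.trans ha1.symm)
  have h21 : J2 i1 = I i1 := inv_smul_eq_iff.2 ha1'.symm
  have hp2 : ∀ i j, i ≠ j → ∃ g : G, g • I i = J2 i ∧ g • I j = J2 j := fun i j hij => by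
    obtain ⟨g, h1, h2⟩ := hp1 i j hij
    exact ⟨a1⁻¹ * g, by rw [mul_smul, h1], by rw [mul_smul, h2]⟩
  have key : ∀ i, J2 i = I i := by
    intro i
    by_cases e0 : i = i0
    · rw [e0, h20]
    by_cases e1 : i = i1
    · rw [e1, h21]
    obtain ⟨a, ha, hai⟩ := hp2 i0 i (Ne.symm e0)
    obtain ⟨b, hb, hbi⟩ := hp2 i1 i (Ne.symm e1)
    rw [h20] at ha
    rw [h21] at hb
    rcases htri (I i0) (I i1) (I i) a⁻¹ b (by rw [inv_smul_eq_iff]; exact ha.symm) hb
      (by rw [mul_smul, hbi, inv_smul_eq_iff]; exact hai.symm) with h | h | h | h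
    · rw [inv_eq_one] at h
      rw [← hai, h, one_smul]
    · rw [← hbi, h, one_smul]
    · rw [inv_mul_eq_one] at h
      subst h
      by_cases ea : a = 1
      · rw [← hai, ea, one_smul]
      · exact absurd (hTI _ _ a ea ha hb).symm hi1
    · exact absurd h.symm hi1
  exact ⟨g0 * a1, fun i => by rw [← key i, mul_smul, smul_inv_smul, smul_inv_smul]⟩

end Action

/-- The properties of a minimal nontrivial intersection of conjugates in a binary coset action. -/
structure BinaryAtom (M : Subgroup G) : Prop where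
  ne_bot : M ≠ ⊥
  inter : ∀ x ∈ M, x ≠ 1 → ∀ g : G, g * x * g⁻¹ ∈ M → g ∈ Subgroup.normalizer (M : Set G)
  tri : ∀ x ∈ M, x ≠ 1 → ∀ g h y : G, g * y * g⁻¹ ∈ M → h * (y⁻¹ * x) * h⁻¹ ∈ M → y ∈ M

theorem BinaryAtom.centralizer_le {M : Subgroup G} (hM : BinaryAtom M) {x : G} (hx : x ∈ M) (h1 : x ≠ 1) :
    Subgroup.centralizer ({x} : Set G) ≤ Subgroup.normalizer (M : Set G) := fun g hg =>
  hM.inter x hx h1 g (by rwa [Subgroup.mem_centralizer_singleton_iff.1 hg, mul_inv_cancel_right])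

theorem BinaryAtom.conj {M : Subgroup G} (hM : BinaryAtom M) (u : G) :
    BinaryAtom (M.map (MulAut.conj u).toMonoidHom) := by
  have key : ∀ z, z ∈ M.map (MulAut.conj u).toMonoidHom ↔ u⁻¹ * z * u ∈ M := fun z => by
    constructor
    · rintro ⟨w, hw, rfl⟩
      simpa [mul_assoc] using hw
    · exact fun h => ⟨_, h, by simp [mul_assoc]⟩
  refine ⟨fun e => hM.ne_bot ((Subgroup.map_eq_bot_iff_of_injective M (MulAut.conj u).injective).1 e),
    fun x hx hx1 g hg => ?_, fun x hx hx1 g h y hy hz => ?_⟩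
  · rw [key] at hx hg
    have := hM.inter _ hx (fun e => hx1 (by
      rw [mul_eq_one_iff_eq_inv, inv_mul_eq_iff_eq_mul, mul_inv_cancel] at e; exact e)) (u⁻¹ * g * u)
      (by convert hg using 1; group)
    rw [Subgroup.mem_normalizer_iff] at this ⊢
    intro z
    rw [key, key, this (u⁻¹ * z * u)]
    group
  · rw [key] at hx hy hz ⊢
    exact hM.tri _ hx (fun e => hx1 (by
      rw [mul_eq_one_iff_eq_inv, inv_mul_eq_iff_eq_mul, mul_inv_cancel] at e; exact e))
      (u⁻¹ * g * u) (u⁻¹ * h * u) _ (by convert hy using 1; group) (by convert hz using 1; group)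

/-- An intersection of conjugates minimal among the nontrivial ones is an atom. -/
theorem atom_of_minimal [Finite G] {Ω : Type*} [MulAction G Ω] [Finite Ω] (hb : IsBinary G Ω) (S : Set Ω)
    (hne : fixingSubgroup G S ≠ ⊥)
    (hmin : ∀ T : Set Ω, (∃ x ∈ fixingSubgroup G S, x ≠ 1 ∧ x ∈ fixingSubgroup G T) →
      fixingSubgroup G S ≤ fixingSubgroup G T) :
    BinaryAtom (fixingSubgroup G S) := by
  set M := fixingSubgroup G S with hMdef
  have hsmul : ∀ (g : G) (z : G), g * z * g⁻¹ ∈ M ↔ z ∈ fixingSubgroup G ((g⁻¹ • ·) '' S) := fun g z => by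
    simp only [hMdef, mem_fixingSubgroup_iff, Set.forall_mem_image]
    refine forall₂_congr fun s _ => ?_
    rw [mul_smul, mul_smul, ← eq_inv_smul_iff]
  refine ⟨hne, fun x hx hx1 g hg => ?_, fun x hx hx1 g h y hy hz => ?_⟩
  · have hle : M ≤ fixingSubgroup G ((g⁻¹ • ·) '' S) := hmin _ ⟨x, hx, hx1, (hsmul g x).1 hg⟩
    rw [Subgroup.mem_normalizer_iff]
    have hsub : M.map (MulAut.conj g).toMonoidHom ≤ M := by
      rintro _ ⟨z, hz, rfl⟩
      exact (hsmul g z).2 (hle hz)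
    have heq : M.map (MulAut.conj g).toMonoidHom = M :=
      Subgroup.eq_of_le_of_card_ge hsub (Nat.card_congr (M.equivMapOfInjective _ (MulAut.conj g).injective).toEquiv).le
    intro z
    refine ⟨fun hz => hsub ⟨z, hz, rfl⟩, fun hz => ?_⟩
    rw [← heq] at hz
    obtain ⟨w, hw, e⟩ := hz
    obtain rfl := (MulAut.conj g).injective e
    exact hw
  · by_contra hyM
    obtain ⟨w, hw, hwz⟩ := hb.factor S ((g⁻¹ • ·) '' S) ((h⁻¹ • ·) '' S) hx ((hsmul g y).1 hy)
      ((hsmul h _).1 hz) (mul_inv_cancel_left y x).symm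
    rw [fixingSubgroup_union] at hw
    have hw1 : w = 1 := by
      by_contra hne1
      have hle : M ≤ fixingSubgroup G ((g⁻¹ • ·) '' S) := hmin _ ⟨w, hw.1, hne1, hw.2⟩
      have hcard : Nat.card (fixingSubgroup G ((g⁻¹ • ·) '' S)) = Nat.card M := by
        refine Nat.card_congr (Equiv.subtypeEquiv (MulAut.conj g).toEquiv fun z => ?_)
        exact (hsmul g z).symm
      exact hyM (Subgroup.eq_of_le_of_card_ge hle hcard.le ▸ (hsmul g y).1 hy)
    rw [hw1, inv_one, one_mul] at hwz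
    have hle : M ≤ fixingSubgroup G ((h⁻¹ • ·) '' S) := hmin _ ⟨x, hx, hx1, hwz⟩
    have hcard : Nat.card (fixingSubgroup G ((h⁻¹ • ·) '' S)) = Nat.card M := by
      refine Nat.card_congr (Equiv.subtypeEquiv (MulAut.conj h).toEquiv fun z => ?_)
      exact (hsmul h z).symm
    have hzM : y⁻¹ * x ∈ M := Subgroup.eq_of_le_of_card_ge hle hcard.le ▸ (hsmul h _).1 hz
    exact hyM (by simpa using M.mul_mem hx (M.inv_mem hzM))

/-- Minimal nontrivial intersections exist below every nontrivial one. -/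
theorem exists_atom [Finite G] {Ω : Type*} [MulAction G Ω] [Finite Ω] (hb : IsBinary G Ω) (S0 : Set Ω)
    (h0 : fixingSubgroup G S0 ≠ ⊥) : ∃ M : Subgroup G, M ≤ fixingSubgroup G S0 ∧ BinaryAtom M := by
  classical
  let 𝒮 : Set (Set Ω) := {S | S0 ⊆ S ∧ fixingSubgroup G S ≠ ⊥}
  obtain ⟨S, hS⟩ : ∃ S, Maximal (· ∈ 𝒮) S := 𝒮.toFinite.exists_maximal ⟨S0, subset_rfl, h0⟩
  obtain ⟨⟨hS0, hne⟩, hmax⟩ := hS
  set M := fixingSubgroup G S with hMdef
  have hmin : ∀ T : Set Ω, (∃ x ∈ M, x ≠ 1 ∧ x ∈ fixingSubgroup G T) → M ≤ fixingSubgroup G T := by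
    rintro T ⟨x, hx, hx1, hxT⟩
    have hST : fixingSubgroup G (S ∪ T) ≠ ⊥ := fun e => hx1 (by
      have : x ∈ fixingSubgroup G (S ∪ T) := by rw [fixingSubgroup_union]; exact ⟨hx, hxT⟩
      rwa [e, Subgroup.mem_bot] at this)
    have hle := hmax ⟨hS0.trans Set.subset_union_left, hST⟩ Set.subset_union_left
    exact fixingSubgroup_antitone G Ω (Set.subset_union_right.trans hle)
  exact ⟨M, fixingSubgroup_antitone G Ω hS0, atom_of_minimal hb S hne hmin⟩

/-- The stabiliser of a coset. -/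
theorem smul_coe_eq_iff (H : Subgroup G) (z g : G) : z • (g : G ⧸ H) = g ↔ g⁻¹ * z * g ∈ H := by
  rw [MulAction.Quotient.smul_coe, smul_eq_mul, eq_comm, QuotientGroup.eq, mul_assoc]

theorem mem_fix_one_iff (H : Subgroup G) (z : G) :
    z ∈ fixingSubgroup G ({((1 : G) : G ⧸ H)} : Set (G ⧸ H)) ↔ z ∈ H := by
  rw [mem_fixingSubgroup_iff]
  simp only [Set.mem_singleton_iff, forall_eq, smul_coe_eq_iff, inv_one, one_mul, mul_one]

/-- A subgroup meeting its conjugates trivially, inside a binary coset action, is an atom. -/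
theorem atom_of_TI [Finite G] (H : Subgroup G) (hb : IsBinary G (G ⧸ H)) (hne : H ≠ ⊥)
    (hTI : ∀ x ∈ H, x ≠ 1 → ∀ g : G, g * x * g⁻¹ ∈ H → g ∈ Subgroup.normalizer (H : Set G)) : BinaryAtom H := by
  have e : fixingSubgroup G ({((1 : G) : G ⧸ H)} : Set (G ⧸ H)) = H := Subgroup.ext (mem_fix_one_iff H)
  rw [← e]
  refine atom_of_minimal hb _ (by rwa [e]) ?_
  rw [e]
  rintro T ⟨x, hx, hx1, hxT⟩ z hz
  rw [mem_fixingSubgroup_iff] at hxT ⊢
  intro P hP
  obtain ⟨g, rfl⟩ := QuotientGroup.mk_surjective P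
  rw [smul_coe_eq_iff]
  have h := (smul_coe_eq_iff H x g).1 (hxT _ hP)
  have hg := hTI x hx hx1 g⁻¹ (by simpa using h)
  simpa using (Subgroup.mem_normalizer_iff.1 hg z).1 hz

/-- A sufficient condition for a coset action. -/
theorem isBinary_cosets (H : Subgroup G)
    (hTI : ∀ x ∈ H, x ≠ 1 → ∀ g : G, g * x * g⁻¹ ∈ H → g ∈ Subgroup.normalizer (H : Set G))
    (htri : ∀ a b g h k : G, g * a * g⁻¹ ∈ H → h * b * h⁻¹ ∈ H → k * (a * b) * k⁻¹ ∈ H →
      a ≠ 1 → b ≠ 1 → a * b ≠ 1 → ∃ f : G, f * a * f⁻¹ ∈ H ∧ f * b * f⁻¹ ∈ H) :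
    IsBinary G (G ⧸ H) := by
  have hst : ∀ z g : G, z ∈ stabilizer G (g : G ⧸ H) ↔ g⁻¹ * z * g ∈ H := fun z g => by
    rw [MulAction.mem_stabilizer_iff, smul_coe_eq_iff]
  have hsame : ∀ g g' z : G, z ≠ 1 → g⁻¹ * z * g ∈ H → g'⁻¹ * z * g' ∈ H →
      stabilizer G (g : G ⧸ H) = stabilizer G (g' : G ⧸ H) := by
    intro g g' z hz h h'
    have hn := hTI _ h (fun e => hz (by
      rw [mul_eq_one_iff_eq_inv, inv_mul_eq_iff_eq_mul, mul_inv_cancel] at e; exact e)) (g'⁻¹ * g)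
      (by convert h' using 1; group)
    ext w
    rw [hst, hst, Subgroup.mem_normalizer_iff.1 hn (g⁻¹ * w * g)]
    group
  refine isBinary_of_no_triangle (fun P Q => MulAction.exists_smul_eq G P Q) ?_ ?_
  · intro P Q a ha hP hQ
    obtain ⟨g, rfl⟩ := QuotientGroup.mk_surjective P
    obtain ⟨g', rfl⟩ := QuotientGroup.mk_surjective Q
    exact hsame g g' a ha ((smul_coe_eq_iff H a g).1 hP) ((smul_coe_eq_iff H a g').1 hQ)
  · intro P Q R a b hP hQ hR
    by_cases ha : a = 1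
    · exact Or.inl ha
    by_cases hb : b = 1
    · exact Or.inr (Or.inl hb)
    by_cases hab : a * b = 1
    · exact Or.inr (Or.inr (Or.inl hab))
    obtain ⟨g, rfl⟩ := QuotientGroup.mk_surjective P
    obtain ⟨g', rfl⟩ := QuotientGroup.mk_surjective Q
    obtain ⟨g'', rfl⟩ := QuotientGroup.mk_surjective R
    have hP' := (smul_coe_eq_iff H a g).1 hP
    have hQ' := (smul_coe_eq_iff H b g').1 hQ
    obtain ⟨f, hfa, hfb⟩ := htri a b g⁻¹ g'⁻¹ g''⁻¹ (by rwa [inv_inv]) (by rwa [inv_inv])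
      (by rw [inv_inv]; exact (smul_coe_eq_iff H _ g'').1 hR) ha hb hab
    refine Or.inr (Or.inr (Or.inr ((hsame g f⁻¹ a ha hP' ?_).trans (hsame f⁻¹ g' b hb ?_ hQ'))))
    · rwa [inv_inv]
    · rwa [inv_inv]

end CfsgLib.Binary
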