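import Mathlib
import Cfsg.Agent.Lib.Binary.Basic
import Cfsg.Agent.Lib.Geom.InvolGraph
import Cfsg.Agent.Lib.Geom.DicksonBorel
import Cfsg.Agent.Lib.Geom.SL2CJCard
import Cfsg.Agent.Lib.Classical.SLTwoCent

set_option autoImplicit false

/-!
Matrix facts about `PSL_2(q)` for the classification of binary coset actions.
-/

namespace CfsgLib.Binary.PSLTwo

open Matrix
open scoped MatrixGroups
open CfsgLib.Geom.SL2Anti (pr)
open CfsgLib.Classical (uElt uElt_val uElt_add)

variable {F : Type*} [Field F] [Fintype F]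

local notation "M2" => Matrix (Fin 2) (Fin 2) F
local notation "PSL2" => ProjectiveSpecialLinearGroup (Fin 2) F

/-- The image of an upper unitriangular element. -/
def u (t : F) : PSL2 := pr (uElt t)

theorem u_mul (s t : F) : u s * u t = u (s + t) := by rw [u, u, u, ← map_mul, uElt_add]

theorem u_zero : u (0 : F) = 1 := by
  rw [u, show uElt (0 : F) = 1 from Matrix.SpecialLinearGroup.transvection_coeff_zero _, map_one]

omit [Fintype F] in
theorem trace_conj (s Z : SL(2, F)) : ((s⁻¹ * Z * s : SL(2, F)) : M2).trace = (Z : M2).trace := by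
  rw [Matrix.SpecialLinearGroup.coe_mul, Matrix.trace_mul_comm, ← Matrix.SpecialLinearGroup.coe_mul, ← mul_assoc,
    mul_inv_cancel, one_mul]

/-- Lifts of the identity. -/
theorem pr_eq_one_cases {X : SL(2, F)} (h : (pr X : PSL2) = 1) : (X : M2) = 1 ∨ (X : M2) = -1 := by
  obtain ⟨r, hr, e⟩ := Matrix.SpecialLinearGroup.mem_center_iff.1 (Geom.SL2Anti.pr_eq_one.1 h)
  rw [Fintype.card_fin, sq] at hr
  rcases mul_self_eq_one_iff.1 hr with rfl | rfl
  · exact Or.inl (by rw [← e, map_one])
  · exact Or.inr (by rw [← e, map_neg, map_one])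

theorem u_ne_one {t : F} (ht : t ≠ 0) : u t ≠ 1 := fun h => by
  rcases pr_eq_one_cases h with e | e <;>
    · have := congrArg (fun A : M2 => A 0 1) e
      simp [uElt_val] at this
      exact ht this

theorem commute_u (s t : F) : Commute (u s) (u t) := by
  show u s * u t = u t * u s
  rw [u_mul, u_mul, add_comm]

/-- A subgroup containing all upper unitriangular elements and one non-triangular one is everything. -/
theorem eq_top_of_u_mem (N : Subgroup PSL2) (hU : ∀ t, u t ∈ N) (g : SL(2, F)) (hg : pr g ∈ N)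
    (hc : (g : M2) 1 0 ≠ 0) : N = ⊤ := by
  set K := N.comap (pr : SL(2, F) →* PSL2) with hK
  have hu : ∀ t, uElt t ∈ K := fun t => hU t
  set w := uElt (-(g : M2) 0 0 / (g : M2) 1 0) * g * uElt (-(g : M2) 1 1 / (g : M2) 1 0) with hw
  have hwK : w ∈ K := K.mul_mem (K.mul_mem (hu _) hg) (hu _)
  have hwv : (w : M2) = !![0, -((g : M2) 1 0)⁻¹; (g : M2) 1 0, 0] := by
    have hd := CfsgLib.Classical.slTwo_det g
    ext i j
    fin_cases i <;> fin_cases j <;>
      simp [hw, Matrix.SpecialLinearGroup.coe_mul, uElt_val, Matrix.mul_apply, Fin.sum_univ_two, Matrix.vecMul, dotProduct] <;>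
      first | (field_simp; linear_combination -hd) | (field_simp; linear_combination hd) | (field_simp; ring1) | simp [mul_assoc, mul_comm ((g : M2) 1 0), hc]
  have htop : K = ⊤ := by
    refine CfsgLib.Classical.sl_transvection_induction K ?_
    intro i j hij c
    fin_cases i <;> fin_cases j
    · exact absurd rfl hij
    · exact hu c
    · have e : Matrix.SpecialLinearGroup.transvection hij c =
          w * uElt (-c / ((g : M2) 1 0 * (g : M2) 1 0)) * w⁻¹ := by
        rw [eq_mul_inv_iff_mul_eq]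
        refine Subtype.ext ?_
        ext a b
        fin_cases a <;> fin_cases b <;>
          simp [Matrix.SpecialLinearGroup.coe_mul, hwv, uElt_val, Matrix.SpecialLinearGroup.transvection_coe,
            Matrix.mul_apply, Fin.sum_univ_two] <;> field_simp <;> ring
      rw [e]
      exact K.mul_mem (K.mul_mem hwK (hu _)) (K.inv_mem hwK)
    · exact absurd rfl hij
  rw [eq_top_iff]
  intro x _
  obtain ⟨X, rfl⟩ := Geom.SL2Anti.pr_surjective x
  exact (htop ▸ Subgroup.mem_top X : X ∈ K)

/-- Elements of order `p` are conjugate to translations. -/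
theorem exists_conj_u {p : ℕ} [Fact p.Prime] [CharP F p] {x : PSL2} (hx : x ≠ 1) (hxp : x ^ p = 1) :
    ∃ (g : PSL2) (α : F), α ≠ 0 ∧ g * x * g⁻¹ = u α := by
  obtain ⟨S0, hS0⟩ := CfsgLib.Classical.exists_sylow_uSL (F := F) (p := p)
  let S : Sylow p PSL2 := S0.mapSurjective (Geom.SL2Anti.pr_surjective (F := F))
  have hS : (S : Subgroup PSL2) = (CfsgLib.Classical.uSL F).map pr := by rw [← hS0]; rfl
  have hp : IsPGroup p (Subgroup.zpowers x) :=
    IsPGroup.of_card (n := 1) (by rw [Nat.card_zpowers, orderOf_eq_prime hxp hx, pow_one])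
  obtain ⟨P, hP⟩ := hp.exists_le_sylow
  obtain ⟨g, hg⟩ := MulAction.exists_smul_eq PSL2 P S
  have hm : g * x * g⁻¹ ∈ ((CfsgLib.Classical.uSL F).map pr : Subgroup PSL2) := by
    rw [← hS, ← hg, Sylow.coe_subgroup_smul]
    exact Subgroup.smul_mem_pointwise_smul _ (MulAut.conj g) _ (hP (Subgroup.mem_zpowers x))
  obtain ⟨_, ⟨α, rfl⟩, e⟩ := hm
  refine ⟨g, α, fun h => hx ?_, e.symm⟩
  have e' : u α = g * x * g⁻¹ := e
  rw [h, u_zero, eq_mul_inv_iff_mul_eq, one_mul] at e'
  exact (mul_eq_left.1 e'.symm)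

/-- Lifts of `1` among unipotent products in odd characteristic. -/
theorem unipotent_triangle {α : F} (hα : α ≠ 0) (h2 : (2 : F) ≠ 0) :
    ∃ y : SL(2, F), (y : M2) 1 0 ≠ 0 ∧
      (∃ g : PSL2, g * pr y * g⁻¹ = (u α)⁻¹) ∧ (∃ h : PSL2, h * ((pr y)⁻¹ * u α) * h⁻¹ = (u α)⁻¹) := by
  have hinv : (u α)⁻¹ = u (-α) := inv_eq_of_mul_eq_one_right (by rw [u_mul, add_neg_cancel, u_zero])
  have h4 : (4 : F) ≠ 0 := by rw [show (4 : F) = 2 * 2 by norm_num]; exact mul_ne_zero h2 h2
  let y : SL(2, F) := ⟨!![1, 0; 4 / α, 1], by simp [det_fin_two_of]⟩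
  let g1 : SL(2, F) := ⟨!![0, α / 2; -(2 / α), 0], by simp [det_fin_two_of]; field_simp⟩
  let g2 : SL(2, F) := ⟨!![1, 0; -(2 / α), 1], by simp [det_fin_two_of]⟩
  refine ⟨y, div_ne_zero h4 hα, ⟨(pr g1)⁻¹, ?_⟩, ⟨(pr g2)⁻¹, ?_⟩⟩
  · have e : y * g1 = g1 * uElt (-α) := by
      refine Subtype.ext ?_
      rw [Matrix.SpecialLinearGroup.coe_mul, Matrix.SpecialLinearGroup.coe_mul, uElt_val]
      ext i j
      fin_cases i <;> fin_cases j <;>
        simp [y, g1, Matrix.mul_apply, Fin.sum_univ_two] <;> field_simp <;> ring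
    rw [hinv, u, inv_inv, mul_assoc, ← map_mul, e, map_mul, inv_mul_cancel_left]
  · have e : uElt α * g2 = -(y * g2 * uElt (-α)) := by
      refine Subtype.ext ?_
      rw [Matrix.SpecialLinearGroup.coe_neg, Matrix.SpecialLinearGroup.coe_mul, Matrix.SpecialLinearGroup.coe_mul,
        Matrix.SpecialLinearGroup.coe_mul, uElt_val, uElt_val]
      ext i j
      fin_cases i <;> fin_cases j <;>
        simp [y, g2, Matrix.mul_apply, Fin.sum_univ_two] <;> field_simp <;> ring
    rw [hinv, u, inv_inv, mul_assoc, mul_assoc, ← map_mul, inv_mul_eq_iff_eq_mul, inv_mul_eq_iff_eq_mul, e,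
      Geom.SL2Anti.pr_neg h2, map_mul, map_mul, u, mul_assoc]

/-- Two elements of the same trace generate a triangle with a third of that trace. -/
theorem semisimple_triangle (X : SL(2, F)) {t : F} (ht : (X : M2).trace = t) (h4 : t * t ≠ 4) (h1 : t + 1 ≠ 0) :
    ∃ Y : SL(2, F), (Y : M2).trace = t ∧ ((Y⁻¹ * X : SL(2, F)) : M2).trace = t ∧ X * Y ≠ Y * X := by
  let C : SL(2, F) := ⟨!![0, -1; 1, t], by simp [det_fin_two_of]⟩
  obtain ⟨s, hs⟩ := Geom.SL2Anti.exists_conj_of_trace X C (by rw [ht]; simp [C, trace_fin_two]) (by rwa [ht])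
  have ht2 : t + 2 ≠ 0 := fun e => h4 (by linear_combination (t - 2) * e)
  have ht2' : t - 2 ≠ 0 := fun e => h4 (by linear_combination (t + 2) * e)
  have hc0 : (t - 2) * (t + 1) / (t + 2) ≠ 0 := div_ne_zero (mul_ne_zero ht2' h1) ht2
  obtain ⟨a', b', hab⟩ := Geom.SL2Anti.exists_norm_value (-t) (by simpa using h4) hc0
  set a := a' + t / (t + 2) with ha
  set b := b' - t / (t + 2) with hb
  have hdet : (!![a, b; t * (1 - a) + b, t - a] : M2).det = 1 := by
    rw [det_fin_two_of, ha, hb]
    field_simp at hab ⊢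
    linear_combination -(t + 2) * hab
  let Y : SL(2, F) := ⟨_, hdet⟩
  refine ⟨s⁻¹ * Y * s, ?_, ?_, ?_⟩
  · rw [trace_conj]
    simp [Y, trace_fin_two]
  · have e : (s⁻¹ * Y * s)⁻¹ * X = s⁻¹ * (Y⁻¹ * C) * s := by rw [← hs]; group
    rw [e, trace_conj, Matrix.SpecialLinearGroup.coe_mul, Matrix.SpecialLinearGroup.coe_inv]
    simp [Y, C, trace_fin_two, adjugate_fin_two, Matrix.mul_apply, Fin.sum_univ_two]
    ring
  · intro e
    have e' : C * Y = Y * C := by
      calc C * Y = s * (X * (s⁻¹ * Y * s)) * s⁻¹ := by rw [← hs]; group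
        _ = Y * C := by rw [e, ← hs]; group
    have em : (C : M2) * (Y : M2) = (Y : M2) * C := by
      rw [← Matrix.SpecialLinearGroup.coe_mul, ← Matrix.SpecialLinearGroup.coe_mul, e']
    have e00 := congrArg (fun A : M2 => A 0 0) em
    have e01 := congrArg (fun A : M2 => A 0 1) em
    simp [Y, C, Matrix.mul_apply, Fin.sum_univ_two] at e00 e01
    rw [ha, hb] at e00 e01
    field_simp at e00 e01
    have hz : a' = 0 ∧ b' = 0 := by
      have k1 : 2 * a' - t * b' = 0 := mul_left_cancel₀ ht2 (by linear_combination e01)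
      have k2 : 2 * b' - t * a' = 0 := mul_left_cancel₀ ht2 (by linear_combination -e00)
      have k3 : (4 - t * t) * a' = 0 := by linear_combination 2 * k1 + t * k2
      have k4 : (4 - t * t) * b' = 0 := by linear_combination 2 * k2 + t * k1
      exact ⟨(mul_eq_zero.1 k3).resolve_left (sub_ne_zero.2 h4.symm),
        (mul_eq_zero.1 k4).resolve_left (sub_ne_zero.2 h4.symm)⟩
    rw [hz.1, hz.2] at hab
    exact hc0 (by rw [← hab]; ring)

/-- In characteristic two an element of trace one with an eigenvalue in the field lies in a triangle. -/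
theorem split_three_triangle (h2 : (2 : F) = 0) (X : SL(2, F)) (ht : (X : M2).trace = 1) {w : F}
    (hw : w * w + w + 1 = 0) :
    ∃ Y : SL(2, F), (Y : M2).trace = 1 ∧ ((Y⁻¹ * X : SL(2, F)) : M2).trace = 1 ∧ X * Y ≠ Y * X := by
  let D : SL(2, F) := ⟨!![w, 0; 0, w * w], by rw [det_fin_two_of]; linear_combination (w - 1) * hw⟩
  have h11 : (1 : F) * 1 ≠ 4 := by rw [show (4 : F) = 2 * 2 by norm_num, h2]; simp
  obtain ⟨s, hs⟩ := Geom.SL2Anti.exists_conj_of_trace X D
    (by rw [ht]; simp [D, trace_fin_two]; linear_combination -hw + h2) (by rwa [ht])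
  let Y : SL(2, F) := ⟨!![w * w, 1; 0, w], by rw [det_fin_two_of]; linear_combination (w - 1) * hw⟩
  refine ⟨s⁻¹ * Y * s, ?_, ?_, ?_⟩
  · rw [trace_conj]
    simp [Y, trace_fin_two]; linear_combination hw - h2
  · have e : (s⁻¹ * Y * s)⁻¹ * X = s⁻¹ * (Y⁻¹ * D) * s := by rw [← hs]; group
    rw [e, trace_conj, Matrix.SpecialLinearGroup.coe_mul, Matrix.SpecialLinearGroup.coe_inv]
    simp [Y, D, trace_fin_two, adjugate_fin_two, Matrix.mul_apply, Fin.sum_univ_two]
    linear_combination (w * w - w + 1) * hw - h2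
  · intro e
    have e' : D * Y = Y * D := by
      calc D * Y = s * (X * (s⁻¹ * Y * s)) * s⁻¹ := by rw [← hs]; group
        _ = Y * D := by rw [e, ← hs]; group
    have em : (D : M2) * (Y : M2) = (Y : M2) * D := by
      rw [← Matrix.SpecialLinearGroup.coe_mul, ← Matrix.SpecialLinearGroup.coe_mul, e']
    have e01 := congrArg (fun A : M2 => A 0 1) em
    simp [Y, D, Matrix.mul_apply, Fin.sum_univ_two] at e01
    have : w = 1 ∨ w = 0 := by
      have : w * (w - 1) = 0 := by linear_combination -e01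
      rcases mul_eq_zero.1 this with h | h
      · exact Or.inr h
      · exact Or.inl (sub_eq_zero.1 h)
    rcases this with rfl | rfl
    · exact one_ne_zero (by linear_combination hw - h2 : (1 : F) = 0)
    · simp at hw

/-- With no cube root of unity, three elements of trace one with product relation coincide. -/
theorem trace_one_triangle (h2 : (2 : F) = 0) (hnw : ∀ w : F, w * w + w + 1 ≠ 0) (A B : SL(2, F))
    (hA : (A : M2).trace = 1) (hB : (B : M2).trace = 1) (hAB : ((A * B : SL(2, F)) : M2).trace = 1) : B = A := by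
  let C : SL(2, F) := ⟨!![0, -1; 1, 1], by simp [det_fin_two_of]⟩
  have h11 : (1 : F) * 1 ≠ 4 := by rw [show (4 : F) = 2 * 2 by norm_num, h2]; simp
  obtain ⟨s, hs⟩ := Geom.SL2Anti.exists_conj_of_trace A C (by rw [hA]; simp [C, trace_fin_two]) (by rwa [hA])
  obtain ⟨B', hB'⟩ : ∃ B', B' = s * B * s⁻¹ := ⟨_, rfl⟩
  have tB : (B' : M2).trace = 1 := by
    rw [hB', Matrix.SpecialLinearGroup.coe_mul, Matrix.trace_mul_comm, ← Matrix.SpecialLinearGroup.coe_mul,
      ← mul_assoc, inv_mul_cancel, one_mul, hB]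
  have tCB : ((C * B' : SL(2, F)) : M2).trace = 1 := by
    rw [show C * B' = s * (A * B) * s⁻¹ by rw [hB', ← hs]; group, Matrix.SpecialLinearGroup.coe_mul,
      Matrix.trace_mul_comm, ← Matrix.SpecialLinearGroup.coe_mul, ← mul_assoc, inv_mul_cancel, one_mul, hAB]
  have hd := CfsgLib.Classical.slTwo_det B'
  obtain ⟨p, r, q, d, e⟩ : ∃ p r q d, (B' : M2) = !![p, r; q, d] :=
    ⟨_, _, _, _, Matrix.eta_fin_two (B' : M2)⟩
  rw [e] at tB hd
  rw [Matrix.SpecialLinearGroup.coe_mul] at tCB
  simp [C, e, trace_fin_two, Matrix.mul_apply, Fin.sum_univ_two, Matrix.vecMul, dotProduct] at tB tCB hd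
  have hd' : d = 1 - p := by linear_combination tB
  have hq : q = p + r := by linear_combination -tCB + tB - p * h2
  subst hd' hq
  have key : p * p + p * (r - 1) + (r - 1) * (r - 1) = 0 := by linear_combination -hd - r * h2
  have hr : r - 1 = 0 := by
    by_contra hr
    refine hnw (p / (r - 1)) ?_
    field_simp
    linear_combination key
  rw [hr, mul_zero, mul_zero, add_zero, add_zero, mul_self_eq_zero] at key
  have : B' = C := by
    refine Subtype.ext ?_
    show (B' : M2) = !![0, -1; 1, 1]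
    rw [e, key, sub_eq_zero.1 hr]
    ext i j
    fin_cases i <;> fin_cases j <;> simp
    linear_combination h2
  rw [hB', ← hs] at this
  exact mul_left_cancel (mul_right_cancel this)

end CfsgLib.Binary.PSLTwo
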