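import Mathlib
import Cfsg.Agent.Lib.Binary.PSLTwoBase
import Cfsg.Agent.Lib.Classical.PSLTwoDihedral
import Cfsg.Agent.Lib.Geom.RedundantPSL

set_option autoImplicit false

/-!
Minimal intersections of conjugates in a binary coset action of `PSL_2(q)`.
-/

namespace CfsgLib.Binary.PSLTwo

open Matrix
open scoped MatrixGroups
open CfsgLib.Geom.SL2Anti (pr Anti J0 CJ)
open CfsgLib.Classical (uElt uElt_val)

variable {F : Type*} [Field F] [Fintype F]

local notation "M2" => Matrix (Fin 2) (Fin 2) F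
local notation "PSL2" => ProjectiveSpecialLinearGroup (Fin 2) F
local notation "ψ" => Matrix.ProjectiveSpecialLinearGroup.toPGL (n := Fin 2) (R := F)

theorem normalizer_ne_top (h4 : 4 ≤ Fintype.card F) {M : Subgroup PSL2} (h0 : M ≠ ⊥) (h1 : M ≠ ⊤) :
    Subgroup.normalizer (M : Set PSL2) ≠ ⊤ := by
  intro e
  have := CfsgLib.ClassK.isSimpleGroup_psl_two (F := F) h4
  rcases (Subgroup.normalizer_eq_top_iff.1 e).eq_bot_or_eq_top with h | h
  · exact h0 h
  · exact h1 h

/-- A proper subgroup containing all translations consists of triangular elements. -/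
theorem upper_of_u_mem {N : Subgroup PSL2} (hN : N ≠ ⊤) (hU : ∀ t, u t ∈ N) {g : SL(2, F)} (hg : pr g ∈ N) :
    (g : M2) 1 0 = 0 := by
  by_contra h
  exact hN (eq_top_of_u_mem N hU g hg h)

theorem u_mem_normalizer {M : Subgroup PSL2} (hM : BinaryAtom M) {α : F} (hα : α ≠ 0) (hm : u α ∈ M) (t : F) :
    u t ∈ Subgroup.normalizer (M : Set PSL2) :=
  hM.centralizer_le hm (u_ne_one hα) (Subgroup.mem_centralizer_singleton_iff.2 (commute_u t α).eq)

omit [Fintype F] in
theorem conj_ne_top {G : Type*} [Group G] {M : Subgroup G} (h : M ≠ ⊤) (g : G) :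
    M.map (MulAut.conj g).toMonoidHom ≠ ⊤ := fun e => h <| by
  have := congrArg (Subgroup.comap (MulAut.conj g).toMonoidHom) e
  rwa [Subgroup.comap_map_eq_self_of_injective (MulAut.conj g).injective, Subgroup.comap_top] at this

/-- Atoms have order prime to an odd characteristic. -/
theorem not_dvd_of_atom {p : ℕ} [hp : Fact p.Prime] [CharP F p] (h4 : 4 ≤ Fintype.card F) (hp2 : p ≠ 2)
    {M : Subgroup PSL2} (hM : BinaryAtom M) (hne : M ≠ ⊤) : ¬ p ∣ Nat.card M := by
  intro hd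
  have h2 : (2 : F) ≠ 0 := fun e => hp2 ((Nat.prime_dvd_prime_iff_eq hp.out Nat.prime_two).1
    ((CharP.cast_eq_zero_iff F p 2).1 (by exact_mod_cast e)))
  obtain ⟨⟨x, hx⟩, ho⟩ := exists_prime_orderOf_dvd_card' p hd
  rw [Subgroup.orderOf_mk] at ho
  have hx1 : x ≠ 1 := fun e => by rw [e, orderOf_one] at ho; exact hp.out.one_lt.ne ho
  obtain ⟨g, α, hα, hg⟩ := exists_conj_u hx1 (by rw [← ho]; exact pow_orderOf_eq_one x)
  set M' := M.map (MulAut.conj g).toMonoidHom
  have hM' := hM.conj g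
  have hu : u α ∈ M' := hg ▸ Subgroup.mem_map_of_mem _ hx
  obtain ⟨y, hy, ⟨a, ha⟩, b, hb⟩ := unipotent_triangle hα h2
  have hyM := hM'.tri _ hu (u_ne_one hα) a b (pr y) (ha ▸ M'.inv_mem hu) (hb ▸ M'.inv_mem hu)
  exact hy (upper_of_u_mem (normalizer_ne_top h4 hM'.ne_bot (conj_ne_top hne g))
    (fun t => u_mem_normalizer hM' hα hu t) (Subgroup.le_normalizer hyM))

theorem exists_conj_u_charTwo (h2 : (2 : F) = 0) {β σ : F} (hβ : β ≠ 0) (hσ : σ ≠ 0) :
    ∃ g : PSL2, g * u β * g⁻¹ = u σ := by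
  obtain ⟨r, hr⟩ := CfsgLib.Geom.isSquare_of_two_eq_zero h2 (σ / β)
  have hr0 : r ≠ 0 := fun e => by rw [e, mul_zero, div_eq_zero_iff] at hr; exact hr.elim hσ hβ
  let d : SL(2, F) := ⟨!![r, 0; 0, r⁻¹], by simp [det_fin_two_of, hr0]⟩
  refine ⟨pr d, ?_⟩
  rw [u, u, mul_inv_eq_iff_eq_mul, ← map_mul, ← map_mul]
  refine congrArg pr (Subtype.ext ?_)
  rw [Matrix.SpecialLinearGroup.coe_mul, Matrix.SpecialLinearGroup.coe_mul, uElt_val, uElt_val]
  rw [div_eq_iff hβ] at hr
  ext i j
  fin_cases i <;> fin_cases j <;> simp [d, hr, Matrix.mul_apply, Fin.sum_univ_two]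
  field_simp

/-- An atom containing an involution contains its whole root group. -/
theorem u_mem_of_atom (h2 : (2 : F) = 0) {M : Subgroup PSL2} (hM : BinaryAtom M) {σ : F} (hσ : σ ≠ 0)
    (hm : u σ ∈ M) (β : F) : u β ∈ M := by
  by_cases hβ : β = 0
  · rw [hβ, u_zero]; exact M.one_mem
  by_cases he : σ - β = 0
  · rwa [← sub_eq_zero.1 he]
  obtain ⟨a, ha⟩ := exists_conj_u_charTwo h2 hβ hσ
  obtain ⟨b, hb⟩ := exists_conj_u_charTwo h2 he hσ
  refine hM.tri _ hm (u_ne_one hσ) a b (u β) (ha ▸ hm) ?_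
  have e : (u β)⁻¹ * u σ = u (σ - β) := by rw [inv_mul_eq_iff_eq_mul, u_mul, add_sub_cancel]
  rw [e, hb]
  exact hm

/-- Four involutions commuting with each involution of an atom. -/
theorem four_involutions (h7 : 7 ≤ Fintype.card F) (h2 : (2 : F) ≠ 0) {M : Subgroup PSL2} (hM : BinaryAtom M)
    {s : PSL2} (hs : orderOf s = 2) (hsM : s ∈ M) :
    ∃ f : Fin 4 → M, Function.Injective f ∧ ∀ i, orderOf (f i) = 2 ∧ f i * ⟨s, hsM⟩ = ⟨s, hsM⟩ * f i := by
  classical
  obtain ⟨k, hk⟩ := Geom.SL2Anti.exists_K0 h2 (F := F)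
  have hsq : ∀ g : SL(2, F), g * g = -1 → (pr g : PSL2) ≠ 1 → orderOf (pr g : PSL2) = 2 := fun g hg hg1 =>
    orderOf_eq_prime (by rw [sq]; exact Geom.SL2Anti.pr_mul_self_of_sq h2 hg) hg1
  have hJ : orderOf (pr J0 : PSL2) = 2 := hsq _ hk.1 (hk.pr_ne_one h2)
  obtain ⟨g, hg⟩ := isConj_iff.1 (Geom.Moebius.isConj_involutions hs hJ)
  set M' := M.map (MulAut.conj g).toMonoidHom
  have hJM : pr J0 ∈ M' := hg ▸ Subgroup.mem_map_of_mem _ hsM
  have hall : ∀ k' : SL(2, F), Anti J0 k' →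
      (pr k' : PSL2) ∈ M' ∧ orderOf (pr k' : PSL2) = 2 ∧ Commute (pr k' : PSL2) (pr J0) := by
    intro k' h
    have ho := hsq _ h.2.1 (h.swap.pr_ne_one h2)
    have ho' : orderOf (pr (J0 * k') : PSL2) = 2 := hsq _ h.mul_sq (h.mul_right.swap.pr_ne_one h2)
    have hc : Commute (pr k' : PSL2) (pr J0) := by
      show pr k' * pr J0 = pr J0 * pr k'
      rw [← map_mul, ← map_mul, show k' * J0 = -(J0 * k') by rw [h.2.2, neg_neg], Geom.SL2Anti.pr_neg h2]
    have hinv : (pr k' : PSL2)⁻¹ = pr k' := by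
      have e := pow_orderOf_eq_one (pr k' : PSL2)
      rw [ho, sq] at e
      exact inv_eq_of_mul_eq_one_right e
    obtain ⟨a, ha⟩ := isConj_iff.1 (Geom.Moebius.isConj_involutions ho hJ)
    obtain ⟨b, hb⟩ := isConj_iff.1 (Geom.Moebius.isConj_involutions ho' hJ)
    refine ⟨(hM.conj g).tri _ hJM (fun e => by rw [e, orderOf_one] at hJ; omega) a b (pr k') (ha ▸ hJM) ?_,
      ho, hc⟩
    rw [hinv, hc.eq, ← map_mul, hb]
    exact hJM
  obtain ⟨c, hc, hc1, hc2, hc3, hc4⟩ : ∃ c ∈ CJ F, c ≠ 1 ∧ c ≠ -1 ∧ c ≠ J0 ∧ c ≠ -J0 := by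
    by_contra h
    push Not at h
    have hsub : (CJ F : Set SL(2, F)) ⊆ {1, -1, J0, -J0} := fun c hc => by
      simp only [Set.mem_insert_iff, Set.mem_singleton_iff]
      by_contra hne
      push Not at hne
      exact hne.2.2.2 (h c hc hne.1 hne.2.1 hne.2.2.1)
    have hle : Nat.card (CJ F) ≤ 4 := by
      rw [← SetLike.coe_sort_coe, Nat.card_coe_set_eq]
      refine (Set.ncard_le_ncard hsub).trans ?_
      refine (Set.ncard_insert_le _ _).trans (Nat.succ_le_succ ((Set.ncard_insert_le _ _).trans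
        (Nat.succ_le_succ ((Set.ncard_insert_le _ _).trans ?_))))
      simp
    by_cases hi : IsSquare (-1 : F)
    · rw [Geom.SL2Anti.card_CJ_split h2 hi] at hle; omega
    · rw [Geom.SL2Anti.card_CJ_nonsplit hi] at hle; omega
  have hkc : Anti J0 (k * c) := by
    have hcJ : c * J0 = J0 * c := Subgroup.mem_centralizer_singleton_iff.1 hc
    refine ⟨hk.1, ?_, ?_⟩
    · have e := Geom.SL2Anti.inv_of_anti hk hc
      rw [show k * c * (k * c) = k * c * (c⁻¹ * k) by rw [← e], mul_assoc, mul_inv_cancel_left, hk.2.1]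
    · rw [← mul_assoc, hk.2.2, neg_mul, mul_assoc, ← hcJ, mul_assoc]
  have hne : ∀ k' : SL(2, F), Anti J0 k' → (pr k' : PSL2) ≠ pr J0 := fun k' h => (h.pr_ne h2).symm
  have h12 : (pr k : PSL2) ≠ pr (J0 * k) := hk.rot.pr_ne h2
  have hk0 : ∀ z : SL(2, F), k * z = k → z = 1 := fun z e => mul_left_cancel (a := k) (e.trans (mul_one k).symm)
  have h13 : (pr k : PSL2) ≠ pr (k * c) := fun e => by
    rcases (Geom.SL2Anti.pr_eq_iff h2).1 e.symm with h | h
    · exact hc1 (hk0 _ h)
    · exact hc2 (neg_eq_iff_eq_neg.1 (hk0 (-c) (by rw [mul_neg, h, neg_neg])))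
  have h23 : (pr (J0 * k) : PSL2) ≠ pr (k * c) := fun e => by
    rw [hk.2.2, Geom.SL2Anti.pr_neg h2] at e
    rcases (Geom.SL2Anti.pr_eq_iff h2).1 e.symm with h | h
    · exact hc3 (mul_left_cancel h)
    · rw [← mul_neg] at h
      exact hc4 (mul_left_cancel h)
  let v : Fin 4 → PSL2 := ![pr J0, pr k, pr (J0 * k), pr (k * c)]
  have hv : ∀ i, v i ∈ M' ∧ orderOf (v i) = 2 ∧ Commute (v i) (pr J0) := by
    intro i
    fin_cases i
    exacts [⟨hJM, hJ, Commute.refl _⟩, hall _ hk, hall _ hk.mul_right, hall _ hkc]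
  have hinj : Function.Injective v := by
    intro i j e
    fin_cases i <;> fin_cases j <;>
      first
        | rfl
        | exact absurd e (hne _ hk)
        | exact absurd e.symm (hne _ hk)
        | exact absurd e (hne _ hk.mul_right)
        | exact absurd e.symm (hne _ hk.mul_right)
        | exact absurd e (hne _ hkc)
        | exact absurd e.symm (hne _ hkc)
        | exact absurd e h12
        | exact absurd e.symm h12
        | exact absurd e h13
        | exact absurd e.symm h13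
        | exact absurd e h23
        | exact absurd e.symm h23
  have hback : ∀ i, g⁻¹ * v i * g ∈ M := fun i => by
    obtain ⟨w, hw, e⟩ := (hv i).1
    rw [← e]
    simpa [mul_assoc] using hw
  refine ⟨fun i => ⟨_, hback i⟩, fun i j e => hinj ?_, fun i => ⟨?_, ?_⟩⟩
  · have e' := congrArg Subtype.val e
    exact mul_left_cancel (mul_right_cancel e')
  · rw [Subgroup.orderOf_mk]
    have := (MulAut.conj g⁻¹).orderOf_eq (v i)
    rw [MulAut.conj_apply, inv_inv] at this
    rw [this]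
    exact (hv i).2.1
  · refine Subtype.ext ?_
    show g⁻¹ * v i * g * s = s * (g⁻¹ * v i * g)
    have e := (hv i).2.2.eq
    rw [← hg] at e
    calc g⁻¹ * v i * g * s = g⁻¹ * (v i * (g * s * g⁻¹)) * g := by group
      _ = s * (g⁻¹ * v i * g) := by rw [e]; group

/-- The group has an involution with at most three involutions in its centraliser. -/
def FewInvol (B : Type*) [Group B] : Prop :=
  ∃ s : B, orderOf s = 2 ∧ ¬ ∃ f : Fin 4 → B, Function.Injective f ∧ ∀ i, orderOf (f i) = 2 ∧ f i * s = s * f i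

theorem FewInvol.congr {B C : Type*} [Group B] [Group C] (h : FewInvol C) (e : B ≃* C) : FewInvol B := by
  obtain ⟨s, hs, hf⟩ := h
  refine ⟨e.symm s, by rw [MulEquiv.orderOf_eq]; exact hs, fun ⟨f, hinj, hfi⟩ => hf ⟨fun i => e (f i),
    e.injective.comp hinj, fun i => ⟨by rw [MulEquiv.orderOf_eq]; exact (hfi i).1, ?_⟩⟩⟩
  rw [← e.apply_symm_apply s, ← map_mul, ← map_mul, (hfi i).2]

theorem fewInvol_of_filter {B : Type*} [Group B] [Fintype B] [DecidableEq B] {s : B} (hs : s * s = 1 ∧ s ≠ 1)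
    (h : (Finset.univ.filter fun z : B => z * z = 1 ∧ z ≠ 1 ∧ z * s = s * z).card ≤ 3) : FewInvol B := by
  refine ⟨s, orderOf_eq_prime (by rw [sq]; exact hs.1) hs.2, fun ⟨f, hinj, hf⟩ => ?_⟩
  have h4 : (Finset.univ.image f).card = 4 := by rw [Finset.card_image_of_injective _ hinj]; rfl
  have hle : Finset.univ.image f ⊆ Finset.univ.filter fun z : B => z * z = 1 ∧ z ≠ 1 ∧ z * s = s * z := by
    intro z hz
    obtain ⟨i, -, rfl⟩ := Finset.mem_image.1 hz
    refine Finset.mem_filter.2 ⟨Finset.mem_univ _, ?_, fun e => ?_, (hf i).2⟩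
    · rw [← sq, ← (hf i).1, pow_orderOf_eq_one]
    · have := (hf i).1; rw [e, orderOf_one] at this; omega
  have := Finset.card_le_card hle
  omega

theorem altFour_few : ∃ s : alternatingGroup (Fin 4), (s * s = 1 ∧ s ≠ 1) ∧
    (Finset.univ.filter fun z : alternatingGroup (Fin 4) => z * z = 1 ∧ z ≠ 1 ∧ z * s = s * z).card ≤ 3 := by
  decide +kernel

theorem permFour_few : ∃ s : Equiv.Perm (Fin 4), (s * s = 1 ∧ s ≠ 1) ∧
    (Finset.univ.filter fun z : Equiv.Perm (Fin 4) => z * z = 1 ∧ z ≠ 1 ∧ z * s = s * z).card ≤ 3 := by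
  decide +kernel

theorem altFive_few : ∃ s : alternatingGroup (Fin 5), (s * s = 1 ∧ s ≠ 1) ∧
    (Finset.univ.filter fun z : alternatingGroup (Fin 5) => z * z = 1 ∧ z ≠ 1 ∧ z * s = s * z).card ≤ 3 := by
  decide +kernel

theorem fewInvol_dihedral {n : ℕ} [NeZero n] : FewInvol (DihedralGroup n) := by
  classical
  refine fewInvol_of_filter (s := DihedralGroup.sr 0) ⟨DihedralGroup.sr_mul_self 0, fun e => by cases e⟩ ?_
  set K : Finset (ZMod n) := Finset.univ.filter fun i => i + i = 0 with hK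
  have hKc : K.card ≤ 2 := by
    have h := IsAddCyclic.card_nsmul_eq_zero_le (α := ZMod n) (n := 2) (by norm_num)
    refine le_trans (le_of_eq ?_) h
    congr 1
    ext i
    simp [hK, two_nsmul, two_mul]
  have h0 : (0 : ZMod n) ∈ K := by simp [hK]
  calc _ ≤ ((K.erase 0).image DihedralGroup.r ∪ K.image DihedralGroup.sr).card := by
        refine Finset.card_le_card fun z hz => ?_
        obtain ⟨-, -, hz1, hz⟩ := Finset.mem_filter.1 hz
        rcases z with i | i
        · refine Finset.mem_union_left _ (Finset.mem_image.2 ⟨i, Finset.mem_erase.2 ⟨fun e => hz1 (by rw [e]; rfl), ?_⟩, rfl⟩)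
          rw [DihedralGroup.r_mul_sr, DihedralGroup.sr_mul_r, DihedralGroup.sr.injEq] at hz
          exact Finset.mem_filter.2 ⟨Finset.mem_univ _, by linear_combination -hz⟩
        · refine Finset.mem_union_right _ (Finset.mem_image.2 ⟨i, ?_, rfl⟩)
          rw [DihedralGroup.sr_mul_sr, DihedralGroup.sr_mul_sr, DihedralGroup.r.injEq] at hz
          exact Finset.mem_filter.2 ⟨Finset.mem_univ _, by linear_combination -hz⟩
    _ ≤ 1 + 2 := by
        refine (Finset.card_union_le _ _).trans (Nat.add_le_add (Finset.card_image_le.trans ?_)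
          (Finset.card_image_le.trans hKc))
        rw [Finset.card_erase_of_mem h0]
        omega

/-- An atom has odd order in odd characteristic. -/
theorem odd_of_atom {p : ℕ} [hp : Fact p.Prime] [CharP F p] (h7 : 7 ≤ Fintype.card F) (hp2 : p ≠ 2)
    {M : Subgroup PSL2} (hM : BinaryAtom M) (hne : M ≠ ⊤) : ¬ 2 ∣ Nat.card M := by
  classical
  intro hd
  have h2 : (2 : F) ≠ 0 := fun e => hp2 ((Nat.prime_dvd_prime_iff_eq hp.out Nat.prime_two).1
    ((CharP.cast_eq_zero_iff F p 2).1 (by exact_mod_cast e)))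
  have hp' := not_dvd_of_atom (by omega) hp2 hM hne
  have hfew : ¬ FewInvol M := fun ⟨s, hs, hf⟩ => hf (by
    obtain ⟨f, h⟩ := four_involutions h7 h2 hM (s := s.1) (by rw [Subgroup.orderOf_coe]; exact hs) s.2
    exact ⟨f, h⟩)
  obtain ⟨s, hs⟩ := exists_prime_orderOf_dvd_card' 2 hd
  have hsub : ∀ (K : Subfield F) (u : ℕ), 2 ≤ u → Nat.card K = u → p ∣ u := by
    intro K u hu hK
    let _ : Fintype K := Fintype.ofFinite K
    have : CharP K p := (K.subtype : K →+* F).charP K.subtype.injective p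
    obtain ⟨m, -, hm⟩ := FiniteField.card K p
    rw [← hK, Nat.card_eq_fintype_card, hm]
    exact dvd_pow_self p m.pos.ne'
  rcases Geom.Moebius.dickson M with ⟨m, -, hc, -⟩ | ⟨P, hP⟩ | ⟨n, hn, -, he, -⟩ | ⟨he, -⟩ | ⟨he, -⟩ | ⟨he, -⟩ |
    ⟨K, u, hu, hK, -, hc⟩ | ⟨K, u, hu, hK, -, hc⟩
  · let _ : Fintype M := Fintype.ofFinite M
    refine hfew (fewInvol_of_filter (s := s) ⟨by
      have h := pow_orderOf_eq_one s
      rw [hs, sq] at h
      exact h, fun e => ?_⟩ ?_)
    · rw [e, orderOf_one] at hs; omega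
    · refine le_trans (Finset.card_le_card ?_) ((IsCyclic.card_pow_eq_one_le (α := M) (n := 2) (by norm_num)).trans (by norm_num))
      intro z hz
      obtain ⟨-, hzz, -⟩ := Finset.mem_filter.1 hz
      exact Finset.mem_filter.2 ⟨Finset.mem_univ _, by rw [sq]; exact hzz⟩
  · obtain ⟨f, hinj, hf⟩ := four_involutions h7 h2 hM (s := s.1) (by rw [Subgroup.orderOf_coe]; exact hs) s.2
    have h1 : ∀ z : M, orderOf z = 2 → ψ (z : PSL2) * ψ (z : PSL2) = 1 ∧ ψ (z : PSL2) ≠ 1 := by
      intro z hz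
      refine ⟨?_, fun e => ?_⟩
      · have h := congrArg Subtype.val (pow_orderOf_eq_one z)
        rw [hz, SubmonoidClass.coe_pow, Subgroup.coe_one] at h
        rw [← map_mul, ← sq, h, map_one]
      · rw [Geom.Moebius.toPGL_eq_one_iff] at e
        rw [show z = 1 from Subtype.ext e, orderOf_one] at hz
        omega
    have hall : ∀ i, f i = s := fun i => Subtype.ext (Matrix.ProjectiveSpecialLinearGroup.toPGL_injective
      (Geom.Moebius.eq_of_commuting_fix h2 (hP _ (f i).2) (hP _ s.2) (h1 _ (hf i).1).1 (h1 _ hs).1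
        (by rw [← map_mul, ← map_mul]; exact congrArg (fun z : M => ψ (z : PSL2)) (hf i).2)
        (h1 _ (hf i).1).2 (h1 _ hs).2))
    exact absurd (hinj ((hall 0).trans (hall 1).symm)) (by decide)
  · have : NeZero n := ⟨by omega⟩
    exact hfew (fewInvol_dihedral.congr he.some)
  · obtain ⟨t, ht, hcard⟩ := altFour_few
    exact hfew ((fewInvol_of_filter ht hcard).congr he.some)
  · obtain ⟨t, ht, hcard⟩ := permFour_few
    exact hfew ((fewInvol_of_filter ht hcard).congr he.some)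
  · obtain ⟨t, ht, hcard⟩ := altFive_few
    exact hfew ((fewInvol_of_filter ht hcard).congr he.some)
  · exact hp' (hc ▸ dvd_mul_of_dvd_right (dvd_mul_of_dvd_left (hsub K u (by omega) hK) _) _)
  · have : p ∣ 2 * Nat.card M := hc ▸ dvd_mul_of_dvd_right (dvd_mul_of_dvd_left (hsub K u (by omega) hK) _) _
    rcases hp.out.dvd_mul.1 this with h | h
    · exact hp2 ((Nat.prime_dvd_prime_iff_eq hp.out Nat.prime_two).1 h)
    · exact hp' h

/-- Subgroups of odd order prime to the characteristic are abelian. -/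
theorem abelian_of_odd {p : ℕ} [hp : Fact p.Prime] [CharP F p] {M : Subgroup PSL2} (hodd : ¬ 2 ∣ Nat.card M)
    (hpM : ¬ p ∣ Nat.card M) {a b : PSL2} (ha : a ∈ M) (hb : b ∈ M) : a * b = b * a := by
  have hsub : ∀ (K : Subfield F) (u : ℕ), Nat.card K = u → 2 ∣ (u + 1) * (u * (u - 1)) := fun K u _ =>
    dvd_mul_of_dvd_right (even_iff_two_dvd.1 (Nat.even_mul_pred_self u)) _
  rcases Geom.Moebius.dickson M with ⟨m, -, hc, -⟩ | ⟨P, hP⟩ | ⟨n, -, -, -, hc⟩ | ⟨-, hc⟩ | ⟨-, hc⟩ | ⟨-, hc⟩ |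
    ⟨K, u, hu, hK, -, hc⟩ | ⟨K, u, hu, hK, -, hc⟩
  · exact congrArg Subtype.val (hc.commGroup.mul_comm (⟨a, ha⟩ : M) ⟨b, hb⟩)
  · obtain ⟨m, rfl⟩ := Geom.Moebius.exists_map1 P
    obtain ⟨c1, d1, e1⟩ := Geom.Moebius.exists_aff_of_fix (g := m⁻¹ * ψ a * m)
      (by rw [mul_smul, mul_smul, hP a ha, inv_smul_smul])
    obtain ⟨c2, d2, e2⟩ := Geom.Moebius.exists_aff_of_fix (g := m⁻¹ * ψ b * m)
      (by rw [mul_smul, mul_smul, hP b hb, inv_smul_smul])
    set w := a * b * a⁻¹ * b⁻¹ with hw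
    have hwM : w ∈ M := M.mul_mem (M.mul_mem (M.mul_mem ha hb) (M.inv_mem ha)) (M.inv_mem hb)
    have e : m⁻¹ * ψ w * m = (m⁻¹ * ψ a * m) * (m⁻¹ * ψ b * m) * (m⁻¹ * ψ a * m)⁻¹ * (m⁻¹ * ψ b * m)⁻¹ := by
      rw [hw, map_mul, map_mul, map_mul, map_inv, map_inv]; group
    rw [e1, e2, Geom.Moebius.aff_inv, Geom.Moebius.aff_inv, Geom.Moebius.aff_mul, Geom.Moebius.aff_mul,
      Geom.Moebius.aff_mul, show c1 * c2 * c1⁻¹ * c2⁻¹ = 1 by rw [mul_comm c1 c2, mul_inv_cancel_right, mul_inv_cancel]] at e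
    have hwp : w ^ p = 1 := by
      refine Matrix.ProjectiveSpecialLinearGroup.toPGL_injective ?_
      rw [map_pow, map_one]
      have hpow : ∀ (t : F) (i : ℕ), (Geom.Moebius.aff (1 : Fˣ) t) ^ i = Geom.Moebius.aff 1 (i • t) := by
        intro t i
        induction i with
        | zero => simp [Geom.Moebius.aff_one]
        | succ i ih => rw [pow_succ, ih, Geom.Moebius.aff_mul, succ_nsmul]; simp [add_comm]
      have h : (m⁻¹ * ψ w * m) ^ p = 1 := by
        rw [e, hpow, nsmul_eq_mul, CharP.cast_eq_zero, zero_mul, Geom.Moebius.aff_one]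
      have := conj_pow (a := m⁻¹) (b := ψ w) (i := p)
      rw [inv_inv] at this
      rw [this, mul_eq_one_iff_eq_inv, inv_mul_eq_iff_eq_mul, mul_inv_cancel] at h
      exact h
    have hw1 : w = 1 := by
      by_contra h
      exact hpM ((orderOf_eq_prime hwp h) ▸ Subgroup.orderOf_dvd_natCard M hwM)
    rw [hw, mul_inv_eq_one, mul_inv_eq_iff_eq_mul] at hw1
    exact hw1
  · exact absurd ⟨n, hc⟩ hodd
  · exact absurd (hc ▸ by norm_num) hodd
  · exact absurd (hc ▸ by norm_num) hodd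
  · exact absurd (hc ▸ by norm_num) hodd
  · exact absurd (hc ▸ hsub K u hK) hodd
  · exfalso
    let _ : Fintype K := Fintype.ofFinite K
    have : CharP K p := (K.subtype : K →+* F).charP K.subtype.injective p
    obtain ⟨r, -, hr⟩ := FiniteField.card K p
    rw [← Nat.card_eq_fintype_card, hK] at hr
    have hpu : p ^ (r : ℕ) ∣ 2 * Nat.card M := by
      rw [hc, hr]
      exact dvd_mul_of_dvd_right (dvd_mul_right _ _) _
    rcases eq_or_ne p 2 with rfl | hp2
    · have h4 : 2 ^ 2 ∣ 2 * Nat.card M := (pow_dvd_pow 2 (by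
        by_contra hlt
        have : (r : ℕ) = 1 := by have := r.pos; omega
        rw [this] at hr
        omega)).trans hpu
      norm_num at h4
      omega
    · rcases hp.out.dvd_mul.1 ((dvd_pow_self p r.pos.ne').trans hpu) with h | h
      · exact hp2 ((Nat.prime_dvd_prime_iff_eq hp.out Nat.prime_two).1 h)
      · exact hpM h

/-- An element of an abelian atom whose lift has trace `t` with `t² ≠ 4` has `t = -1`. -/
theorem triangle_false {M : Subgroup PSL2} (hM : BinaryAtom M) (hab : ∀ a ∈ M, ∀ b ∈ M, a * b = b * a)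
    {X : SL(2, F)} (hx : pr X ∈ M) {t : F} (ht : (X : M2).trace = t) (h4 : t * t ≠ 4)
    {Y : SL(2, F)} (hY : (Y : M2).trace = t) (hZ : ((Y⁻¹ * X : SL(2, F)) : M2).trace = t)
    (hc : X * Y ≠ Y * X) (h0 : t ≠ 0 ∨ (2 : F) = 0) : False := by
  obtain ⟨a, ha⟩ := Geom.SL2Anti.exists_conj_of_trace Y X (by rw [hY, ht]) (by rwa [hY])
  obtain ⟨b, hb⟩ := Geom.SL2Anti.exists_conj_of_trace (Y⁻¹ * X) X (by rw [hZ, ht]) (by rwa [hZ])
  have hx1 : (pr X : PSL2) ≠ 1 := fun e => h4 (by
    rcases pr_eq_one_cases e with h | h <;>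
      · rw [h] at ht; simp at ht; rw [← ht]; ring)
  have hy := hM.tri (pr X) hx hx1 (pr a) (pr b) (pr Y)
    (by rw [← map_inv, ← map_mul, ← map_mul, ha]; exact hx)
    (by rw [← map_inv, ← map_mul, ← map_inv, ← map_mul, ← map_mul, hb]; exact hx)
  have e := hab _ hx _ hy
  rw [← map_mul, ← map_mul, ← inv_mul_eq_one, ← map_inv, ← map_mul] at e
  rcases pr_eq_one_cases e with h | h
  · refine hc (inv_mul_eq_one.1 (Subtype.ext h))
  · have h' : Y * X = -(X * Y) := by
      have h1 : (X * Y)⁻¹ * (Y * X) = (-1 : SL(2, F)) := Subtype.ext h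
      rw [inv_mul_eq_iff_eq_mul.1 h1, mul_neg, mul_one]
    rcases h0 with h0 | h0
    · have h2t : t = -t := by
        have h1 : (X : M2).trace = ((Y * X * Y⁻¹ : SL(2, F)) : M2).trace := by
          have := trace_conj (Y⁻¹) X
          rw [inv_inv] at this
          exact this.symm
        rw [h', show -(X * Y) * Y⁻¹ = -X by rw [neg_mul, mul_inv_cancel_right], Matrix.SpecialLinearGroup.coe_neg,
          Matrix.trace_neg, ht] at h1
        exact h1
      have : (2 : F) * t = 0 := by linear_combination h2t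
      rcases mul_eq_zero.1 this with h2 | h2
      · refine hc ?_
        rw [h']
        refine Subtype.ext (Matrix.ext fun i j => ?_)
        rw [Matrix.SpecialLinearGroup.coe_neg, Matrix.neg_apply]
        linear_combination ((X * Y : SL(2, F)) : M2) i j * h2
      · exact h0 h2
    · refine hc ?_
      rw [h']
      refine Subtype.ext (Matrix.ext fun i j => ?_)
      rw [Matrix.SpecialLinearGroup.coe_neg, Matrix.neg_apply]
      linear_combination ((X * Y : SL(2, F)) : M2) i j * h0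

/-- Nontrivial elements of odd order prime to `p` have lifts of trace `t` with `t² ≠ 4`. -/
theorem trace_sq_ne_four {p : ℕ} [hp : Fact p.Prime] [CharP F p] {M : Subgroup PSL2}
    (hpM : ¬ p ∣ Nat.card M) {X : SL(2, F)} (hx : pr X ∈ M) (hx1 : (pr X : PSL2) ≠ 1) :
    (X : M2).trace * (X : M2).trace ≠ 4 := by
  intro e
  have hp1 : (pr X : PSL2) ^ p = 1 := by
    have hor : CfsgLib.Classical.trSL X = 2 ∨ CfsgLib.Classical.trSL (-X) = 2 := by
      rw [trace_fin_two] at e
      rcases mul_eq_zero.1 (show ((X : M2) 0 0 + (X : M2) 1 1 - 2) * ((X : M2) 0 0 + (X : M2) 1 1 + 2) = 0 by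
        linear_combination e) with h | h
      · exact Or.inl (sub_eq_zero.1 h)
      · exact Or.inr (by simp [CfsgLib.Classical.trSL]; linear_combination -h)
    rcases hor with h | h
    · rw [← map_pow, CfsgLib.Classical.pow_char_of_trSL p h, map_one]
    · have hpn : (pr (-X) : PSL2) = pr X := by
        rw [show -X = -1 * X by simp, map_mul, Geom.SL2Anti.pr_eq_one.2 (Subgroup.mem_center_iff.2 fun g => by simp),
          one_mul]
      rw [← hpn, ← map_pow, CfsgLib.Classical.pow_char_of_trSL p h, map_one]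
  exact hpM ((orderOf_eq_prime hp1 hx1) ▸ Subgroup.orderOf_dvd_natCard M hx)

/-- There are no atoms in odd characteristic. -/
theorem no_atom_odd {p : ℕ} [hp : Fact p.Prime] [CharP F p] (h7 : 7 ≤ Fintype.card F) (hp2 : p ≠ 2)
    {M : Subgroup PSL2} (hM : BinaryAtom M) (hne : M ≠ ⊤) : False := by
  have h2 : (2 : F) ≠ 0 := fun e => hp2 ((Nat.prime_dvd_prime_iff_eq hp.out Nat.prime_two).1
    ((CharP.cast_eq_zero_iff F p 2).1 (by exact_mod_cast e)))
  have hpM := not_dvd_of_atom (by omega) hp2 hM hne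
  have hodd := odd_of_atom h7 hp2 hM hne
  have hab : ∀ a ∈ M, ∀ b ∈ M, a * b = b * a := fun a ha b hb => abelian_of_odd hodd hpM ha hb
  obtain ⟨x, hx, hx1⟩ := M.ne_bot_iff_exists_ne_one.1 hM.ne_bot |> fun ⟨⟨x, hx⟩, h⟩ =>
    (⟨x, hx, fun e => h (Subtype.ext e)⟩ : ∃ x ∈ M, x ≠ 1)
  obtain ⟨X0, rfl⟩ := Geom.SL2Anti.pr_surjective x
  obtain ⟨X, hX, ht1⟩ : ∃ X : SL(2, F), pr X = pr X0 ∧ (X : M2).trace + 1 ≠ 0 := by
    by_cases h : (X0 : M2).trace + 1 = 0
    · refine ⟨-X0, Geom.SL2Anti.pr_neg h2 X0, fun e => h2 ?_⟩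
      rw [Matrix.SpecialLinearGroup.coe_neg, Matrix.trace_neg] at e
      linear_combination h + e
    · exact ⟨X0, rfl, h⟩
  rw [← hX] at hx hx1
  have h4 := trace_sq_ne_four hpM hx hx1
  have ht0 : (X : M2).trace ≠ 0 := fun e => hodd (by
    have hsq := Geom.SL2Anti.pr_mul_self_of_sq h2 (Geom.SL2Anti.sq_eq_neg_one_of_trace e)
    exact (orderOf_eq_prime (p := 2) (by rw [sq]; exact hsq) hx1).symm.dvd.trans (Subgroup.orderOf_dvd_natCard M hx))
  obtain ⟨Y, h1, h2', h3⟩ := semisimple_triangle X rfl h4 ht1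
  exact triangle_false hM hab hx rfl h4 h1 h2' h3 (Or.inl ht0)

theorem pr_injective (h2 : (2 : F) = 0) : Function.Injective (pr : SL(2, F) → PSL2) := by
  refine (injective_iff_map_eq_one (pr : SL(2, F) →* PSL2)).2 fun X h => ?_
  rcases pr_eq_one_cases h with e | e
  · exact Subtype.ext e
  · refine Subtype.ext (e.trans (Matrix.ext fun i j => ?_))
    rw [Matrix.SpecialLinearGroup.coe_one, Matrix.neg_apply]
    linear_combination -(1 : M2) i j * h2

/-- Commuting elements of trace one in characteristic two. -/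
theorem eq_or_of_commute_trace_one (h2 : (2 : F) = 0) {A B : SL(2, F)} (hA : (A : M2).trace = 1)
    (hB : (B : M2).trace = 1) (hc : Commute B A) : B = A ∨ B = A⁻¹ := by
  rw [trace_fin_two] at hA hB
  have hns : ¬ CfsgLib.Classical.IsScalarSL A := fun ⟨_, _, h11⟩ => one_ne_zero (α := F) (by
    rw [← hA, ← h11]; linear_combination (A : M2) 0 0 * h2)
  obtain ⟨a, b, e⟩ := CfsgLib.Classical.exists_coeff_of_commute hns hc
  simp only [e, Matrix.add_apply, Matrix.smul_apply, Matrix.one_apply_eq, smul_eq_mul, mul_one] at hB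
  have hb : b = 1 := by linear_combination hB - b * hA - a * h2
  subst hb
  have hd := CfsgLib.Classical.slTwo_det B
  have hd' := CfsgLib.Classical.slTwo_det A
  simp only [e, Matrix.add_apply, Matrix.smul_apply, Matrix.one_apply, smul_eq_mul, Fin.isValue,
    zero_ne_one, one_ne_zero, if_true, if_false, mul_one, one_mul, mul_zero, zero_add] at hd
  have ha : a * (a + 1) = 0 := by linear_combination hd - hd' - a * hA
  rcases mul_eq_zero.1 ha with ha | ha
  · exact Or.inl (Subtype.ext (by rw [e, ha]; simp))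
  · refine Or.inr (Subtype.ext (e.trans ?_))
    rw [Matrix.SpecialLinearGroup.coe_inv, Matrix.adjugate_fin_two]
    ext i j
    fin_cases i <;> fin_cases j <;> simp <;>
      first
        | linear_combination ha + (A : M2) 0 1 * h2
        | linear_combination ha + (A : M2) 1 0 * h2
        | linear_combination ha + hA - h2 + ((A : M2) 0 0 - (A : M2) 1 1) * 0
        | linear_combination ha + hA - (A : M2) 0 0 * h2
        | linear_combination ha + hA - (A : M2) 1 1 * h2
        | linear_combination ha - hA + (A : M2) 1 1 * h2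
        | linear_combination (A : M2) 0 1 * h2
        | linear_combination (A : M2) 1 0 * h2

/-- Atoms of odd order in characteristic two have order three, and then there is no cube root of unity. -/
theorem odd_atom_charTwo [CharP F 2] {M : Subgroup PSL2} (hM : BinaryAtom M) (hodd : ¬ 2 ∣ Nat.card M) :
    Nat.card M = 3 ∧ (∀ w : F, w * w + w + 1 ≠ 0) ∧
      ∀ X : SL(2, F), pr X ∈ M → pr X ≠ (1 : PSL2) → (X : M2).trace = 1 := by
  have h2 : (2 : F) = 0 := by exact_mod_cast CharP.cast_eq_zero F 2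
  have hab : ∀ a ∈ M, ∀ b ∈ M, a * b = b * a := fun a ha b hb => abelian_of_odd hodd hodd ha hb
  have htr : ∀ X : SL(2, F), pr X ∈ M → pr X ≠ (1 : PSL2) → (X : M2).trace = 1 := by
    intro X hx hx1
    by_contra ht
    have ht1 : (X : M2).trace + 1 ≠ 0 := fun e => ht (by linear_combination e - h2)
    have h4 := trace_sq_ne_four hodd hx hx1
    obtain ⟨Y, h1, h2', h3⟩ := semisimple_triangle X rfl h4 ht1
    exact triangle_false hM hab hx rfl h4 h1 h2' h3 (Or.inr h2)
  obtain ⟨⟨x, hx⟩, hx'⟩ := M.ne_bot_iff_exists_ne_one.1 hM.ne_bot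
  have hx1 : x ≠ 1 := fun e => hx' (Subtype.ext e)
  obtain ⟨X, rfl⟩ := Geom.SL2Anti.pr_surjective x
  have hX := htr X hx hx1
  refine ⟨?_, fun w hw => ?_, htr⟩
  · have hset : (M : Set PSL2) = {1, pr X, (pr X)⁻¹} := by
      ext z
      simp only [Set.mem_insert_iff, Set.mem_singleton_iff, SetLike.mem_coe]
      refine ⟨fun hz => ?_, ?_⟩
      · by_cases hz1 : z = 1
        · exact Or.inl hz1
        obtain ⟨Z, rfl⟩ := Geom.SL2Anti.pr_surjective z
        have hc : Commute Z X := pr_injective h2 (by rw [map_mul, map_mul]; exact hab _ hz _ hx)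
        rcases eq_or_of_commute_trace_one h2 hX (htr Z hz hz1) hc with rfl | rfl
        · exact Or.inr (Or.inl rfl)
        · exact Or.inr (Or.inr (map_inv _ _))
      · rintro (rfl | rfl | rfl)
        exacts [M.one_mem, hx, M.inv_mem hx]
    have hne : (pr X : PSL2) ≠ (pr X)⁻¹ := fun e => hodd ((orderOf_eq_prime (p := 2)
      (by rw [sq]; nth_rw 1 [e]; exact inv_mul_cancel _) hx1).symm.dvd.trans (Subgroup.orderOf_dvd_natCard M hx))
    rw [← SetLike.coe_sort_coe, Nat.card_coe_set_eq, hset, Set.ncard_insert_of_notMem, Set.ncard_pair hne]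
    simp only [Set.mem_insert_iff, Set.mem_singleton_iff, not_or]
    exact ⟨Ne.symm hx1, fun e => hx1 (inv_eq_one.1 e.symm)⟩
  · obtain ⟨Y, h1, h2', h3⟩ := split_three_triangle h2 X hX hw
    exact triangle_false hM hab hx hX (by rw [show (4 : F) = 2 * 2 by norm_num, h2]; simp) h1 h2' h3 (Or.inr h2)

end CfsgLib.Binary.PSLTwo
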