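import Mathlib
import Cfsg.Agent.Lib.Binary.PSLTwoAtom
import Cfsg.Agent.Lib.Geom.CharTwoCA

set_option autoImplicit false

/-!
The binary coset actions of `PSL_2(q)`.
-/

namespace CfsgLib.Binary.PSLTwo

open Matrix
open scoped MatrixGroups
open CfsgLib.Geom.SL2Anti (pr)
open CfsgLib.Classical (uElt uElt_val)

variable {F : Type*} [Field F] [Fintype F]

local notation "M2" => Matrix (Fin 2) (Fin 2) F
local notation "PSL2" => ProjectiveSpecialLinearGroup (Fin 2) F

theorem conj_u_upper (g : SL(2, F)) (t : F) (ht : t ≠ 0)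
    (h : ((g * uElt t * g⁻¹ : SL(2, F)) : M2) 1 0 = 0) : (g : M2) 1 0 = 0 := by
  rw [Matrix.SpecialLinearGroup.coe_mul, Matrix.SpecialLinearGroup.coe_mul, Matrix.SpecialLinearGroup.coe_inv,
    uElt_val] at h
  simp [Matrix.mul_apply, Fin.sum_univ_two, Matrix.adjugate_fin_two] at h
  have : t * ((g : M2) 1 0 * (g : M2) 1 0) = 0 := by linear_combination -h
  rcases mul_eq_zero.1 this with h | h
  · exact absurd h ht
  · exact mul_self_eq_zero.1 h

/-- An upper triangular element of square one in characteristic two is a translation. -/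
theorem upper_sq_one (h2 : (2 : F) = 0) {X : SL(2, F)} (h10 : (X : M2) 1 0 = 0) (hsq : X * X = 1) :
    X = uElt ((X : M2) 0 1) := by
  have hd := CfsgLib.Classical.slTwo_det X
  have e00 := congrArg (fun A : SL(2, F) => (A : M2) 0 0) hsq
  rw [CfsgLib.Classical.slTwo_mul_apply] at e00
  simp [h10] at e00 hd
  have h1 : (X : M2) 0 0 = 1 := by
    rcases mul_self_eq_one_iff.1 e00 with h | h
    · exact h
    · rw [h]; linear_combination -h2
  rw [h1, one_mul] at hd
  refine Subtype.ext ?_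
  rw [uElt_val]
  ext i j
  fin_cases i <;> fin_cases j <;> simp [h10, h1, hd]

/-- Upper triangular elements of trace one yield a cube root of unity. -/
theorem root_of_upper {X : SL(2, F)} (h10 : (X : M2) 1 0 = 0) (ht : (X : M2).trace = 1) (h2 : (2 : F) = 0) :
    ∃ w : F, w * w + w + 1 = 0 := by
  have hd := CfsgLib.Classical.slTwo_det X
  rw [h10, mul_zero, sub_zero] at hd
  rw [trace_fin_two] at ht
  refine ⟨(X : M2) 0 0, ?_⟩
  linear_combination (X : M2) 0 0 * ht - hd + (X : M2) 0 0 * h2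

/-- A nontrivial intersection of conjugates in characteristic two whose elements are triangular
contains all translations. -/
theorem u_mem_of_upper [CharP F 2] {Ω : Type*} [MulAction PSL2 Ω] [Finite Ω]
    (hb : IsBinary PSL2 Ω) (S : Set Ω) (hne : fixingSubgroup PSL2 S ≠ ⊥)
    (hup : ∀ X : SL(2, F), pr X ∈ fixingSubgroup PSL2 S → (X : M2) 1 0 = 0) (β : F) :
    u β ∈ fixingSubgroup PSL2 S := by
  have h2 : (2 : F) = 0 := by exact_mod_cast CharP.cast_eq_zero F 2
  obtain ⟨M, hMS, hM⟩ := exists_atom hb S hne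
  by_cases hd : 2 ∣ Nat.card M
  · obtain ⟨⟨s, hs⟩, ho⟩ := exists_prime_orderOf_dvd_card' 2 hd
    rw [Subgroup.orderOf_mk] at ho
    obtain ⟨X, rfl⟩ := Geom.SL2Anti.pr_surjective s
    have hsq : X * X = 1 := pr_injective h2 (by
      have h := pow_orderOf_eq_one (pr X : PSL2)
      rw [ho, sq] at h
      rw [map_mul, map_one]; exact h)
    have e := upper_sq_one h2 (hup X (hMS hs)) hsq
    have hne0 : (X : M2) 0 1 ≠ 0 := fun h => by
      rw [e, h] at ho
      have : (pr (uElt (0 : F)) : PSL2) = 1 := u_zero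
      rw [this, orderOf_one] at ho
      omega
    exact hMS (u_mem_of_atom h2 hM hne0 (by rw [u, ← e]; exact hs) β)
  · exfalso
    obtain ⟨-, hnw, htr⟩ := odd_atom_charTwo hM hd
    obtain ⟨⟨x, hx⟩, hx'⟩ := M.ne_bot_iff_exists_ne_one.1 hM.ne_bot
    obtain ⟨X, rfl⟩ := Geom.SL2Anti.pr_surjective x
    obtain ⟨w, hw⟩ := root_of_upper (hup X (hMS hx)) (htr X hx fun e => hx' (Subtype.ext e)) h2
    exact hnw w hw

/-- With an involution `u α` in a conjugate of the point stabiliser, that conjugate is the group of translations. -/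
theorem stab_eq_u [CharP F 2] (h4 : 4 ≤ Fintype.card F) {H : Subgroup PSL2} (hH : H ≠ ⊤)
    (hb : IsBinary PSL2 (PSL2 ⧸ H)) (g : PSL2) {α : F} (hα : α ≠ 0) (hm : g⁻¹ * u α * g ∈ H) (z : PSL2) :
    g⁻¹ * z * g ∈ H ↔ ∃ t, z = u t := by
  have h2 : (2 : F) = 0 := by exact_mod_cast CharP.cast_eq_zero F 2
  set S : Set (PSL2 ⧸ H) := {P | u α • P = P} with hS
  set K := fixingSubgroup PSL2 S with hK
  have huK : u α ∈ K := (mem_fixingSubgroup_iff _).2 fun P hP => hP
  have hgS : (g : PSL2 ⧸ H) ∈ S := (smul_coe_eq_iff H _ g).2 hm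
  have hKg : ∀ z ∈ K, g⁻¹ * z * g ∈ H := fun z hz =>
    (smul_coe_eq_iff H z g).1 ((mem_fixingSubgroup_iff _).1 hz _ hgS)
  have hK0 : K ≠ ⊥ := fun e => u_ne_one hα (by rw [e, Subgroup.mem_bot] at huK; exact huK)
  have hK1 : K ≠ ⊤ := fun e => hH (eq_top_iff.2 fun w _ => by
    have := hKg (g * w * g⁻¹) (e ▸ Subgroup.mem_top _)
    simpa [mul_assoc] using this)
  have hN : ∀ t, u t ∈ Subgroup.normalizer (K : Set PSL2) := by
    intro t
    have key : ∀ t : F, ∀ w ∈ K, u t * w * (u t)⁻¹ ∈ K := by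
      intro t w hw
      refine (mem_fixingSubgroup_iff _).2 fun P hP => ?_
      have hP' : (u t)⁻¹ • P ∈ S := by
        show u α • (u t)⁻¹ • P = (u t)⁻¹ • P
        rw [← mul_smul, ((commute_u α t).inv_right).eq, mul_smul, show u α • P = P from hP]
      rw [mul_smul, mul_smul, (mem_fixingSubgroup_iff _).1 hw _ hP', smul_inv_smul]
    rw [Subgroup.mem_normalizer_iff]
    intro w
    refine ⟨key t w, fun hw => ?_⟩
    have h := key (-t) _ hw
    have e : u (-t) = (u t)⁻¹ := (inv_eq_of_mul_eq_one_right (by rw [u_mul, add_neg_cancel, u_zero])).symm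
    rw [e, inv_inv] at h
    simpa [mul_assoc] using h
  have hup : ∀ X : SL(2, F), pr X ∈ K → (X : M2) 1 0 = 0 := fun X hX =>
    upper_of_u_mem (normalizer_ne_top h4 hK0 hK1) hN (Subgroup.le_normalizer hX)
  have hU : ∀ t, u t ∈ K := u_mem_of_upper hb S hK0 hup
  set H' := H.map (MulAut.conj g).toMonoidHom with hH'
  have hmem : ∀ z, z ∈ H' ↔ g⁻¹ * z * g ∈ H := fun z => by
    constructor
    · rintro ⟨w, hw, rfl⟩
      simpa [mul_assoc] using hw
    · exact fun h => ⟨_, h, by simp [mul_assoc]⟩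
  have hU' : ∀ t, u t ∈ H' := fun t => (hmem _).2 (hKg _ (hU t))
  have hup' : ∀ X : SL(2, F), pr X ∈ H' → (X : M2) 1 0 = 0 := fun X hX =>
    upper_of_u_mem (conj_ne_top hH g) hU' hX
  rw [← hmem]
  refine ⟨fun hz => ?_, fun ⟨t, e⟩ => e ▸ hU' t⟩
  obtain ⟨X, rfl⟩ := Geom.SL2Anti.pr_surjective z
  have h10 := hup' X hz
  have hd := CfsgLib.Classical.slTwo_det X
  rw [h10, mul_zero, sub_zero] at hd
  by_cases ha : (X : M2) 0 0 = 1
  · refine ⟨(X : M2) 0 1, congrArg pr (Subtype.ext ?_)⟩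
    rw [ha, one_mul] at hd
    rw [uElt_val]
    ext i j
    fin_cases i <;> fin_cases j <;> simp [h10, ha, hd]
  exfalso
  have hne : (X : M2) 1 1 - (X : M2) 0 0 ≠ 0 := fun e => ha (by
    rw [sub_eq_zero.1 e] at hd
    rcases mul_self_eq_one_iff.1 hd with h | h
    · exact h
    · rw [h]; linear_combination -h2)
  set c := (X : M2) 0 1 / ((X : M2) 1 1 - (X : M2) 0 0) with hc
  let W : SL(2, F) := ⟨!![c, -1 - c * c; 1, -c], by rw [det_fin_two_of]; ring⟩
  have hW : W * X * W⁻¹ = X⁻¹ := by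
    rw [mul_inv_eq_iff_eq_mul]
    refine Subtype.ext ?_
    rw [Matrix.SpecialLinearGroup.coe_mul, Matrix.SpecialLinearGroup.coe_mul, Matrix.SpecialLinearGroup.coe_inv]
    have hX01 : (X : M2) 0 1 = c * ((X : M2) 1 1 - (X : M2) 0 0) := (div_mul_cancel₀ _ hne).symm
    ext i j
    fin_cases i <;> fin_cases j <;>
      simp [W, h10, hX01, Matrix.mul_apply, Fin.sum_univ_two, Matrix.adjugate_fin_two, Matrix.vecMul, dotProduct] <;>
      ring
  set S' : Set (PSL2 ⧸ H) := {(g : PSL2 ⧸ H), ((pr W * g : PSL2) : PSL2 ⧸ H)} with hS'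
  have hfix : ∀ w ∈ fixingSubgroup PSL2 S', g⁻¹ * w * g ∈ H ∧ (pr W)⁻¹ * w * pr W ∈ H' := by
    intro w hw
    rw [mem_fixingSubgroup_iff] at hw
    refine ⟨(smul_coe_eq_iff H w g).1 (hw _ (Set.mem_insert _ _)), (hmem _).2 ?_⟩
    have := (smul_coe_eq_iff H w (pr W * g)).1 (hw _ (Set.mem_insert_of_mem _ rfl))
    simpa [mul_assoc] using this
  have hxS : pr X ∈ fixingSubgroup PSL2 S' := by
    refine (mem_fixingSubgroup_iff _).2 fun P hP => ?_
    rcases hP with rfl | rfl
    · exact (smul_coe_eq_iff H _ g).2 ((hmem _).1 hz)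
    · refine (smul_coe_eq_iff H _ _).2 ?_
      have hX2 : (pr W)⁻¹ * pr X * pr W = (pr X)⁻¹ := by
        have h : X = W * X⁻¹ * W⁻¹ := by
          calc X = (W * X * W⁻¹)⁻¹ := by rw [hW, inv_inv]
            _ = W * X⁻¹ * W⁻¹ := by group
        conv_lhs => rw [h]
        simp [mul_assoc]
      have := (hmem _).1 (hX2.symm ▸ H'.inv_mem hz : (pr W)⁻¹ * pr X * pr W ∈ H')
      simpa [mul_assoc] using this
  have hS'0 : fixingSubgroup PSL2 S' ≠ ⊥ := fun e => by
    rw [e, Subgroup.mem_bot] at hxS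
    rcases pr_eq_one_cases hxS with h | h <;>
      · have := congrArg (fun A : M2 => A 0 0) h
        simp at this
        exact ha (this.trans (by first | rfl | linear_combination -h2))
  have hupS : ∀ Y : SL(2, F), pr Y ∈ fixingSubgroup PSL2 S' → (Y : M2) 1 0 = 0 := fun Y hY =>
    hup' Y ((hmem _).2 (hfix _ hY).1)
  have h1 := (hfix _ (u_mem_of_upper hb S' hS'0 hupS 1)).2
  have e10 := hup' (W⁻¹ * uElt 1 * W) (by rw [map_mul, map_mul, map_inv]; exact h1)
  have := conj_u_upper W⁻¹ 1 one_ne_zero (by rw [inv_inv]; exact e10)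
  rw [(CfsgLib.Classical.slTwo_inv_apply W).2.2.1] at this
  simp [W] at this

theorem exists_card_eq_two_pow [CharP F 2] : ∃ a : ℕ, Fintype.card F = 2 ^ a := by
  obtain ⟨n, -, hn⟩ := FiniteField.card F 2
  exact ⟨n, hn⟩

/-- Sylow 2-subgroups of `PSL_2(2^a)` have order `q`. -/
theorem card_sylow_two [CharP F 2] (P : Sylow 2 PSL2) : Nat.card (P : Subgroup PSL2) = Fintype.card F := by
  have h2 : (2 : F) = 0 := by exact_mod_cast CharP.cast_eq_zero F 2
  obtain ⟨S0, hS0⟩ := CfsgLib.Classical.exists_sylow_uSL (F := F) (p := 2)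
  let S : Sylow 2 PSL2 := S0.mapSurjective (Geom.SL2Anti.pr_surjective (F := F))
  have hS : (S : Subgroup PSL2) = (CfsgLib.Classical.uSL F).map pr := by rw [← hS0]; rfl
  rw [Nat.card_congr (P.equiv S).toEquiv, hS,
    ← Nat.card_congr ((CfsgLib.Classical.uSL F).equivMapOfInjective _ (pr_injective h2)).toEquiv,
    CfsgLib.Classical.card_uSL, Nat.card_eq_fintype_card]

/-- Point stabilisers of even order in binary actions in characteristic two. -/
theorem sylow_of_binary [CharP F 2] (h4 : 4 ≤ Fintype.card F) {H : Subgroup PSL2} (hH : H ≠ ⊤)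
    (hb : IsBinary PSL2 (PSL2 ⧸ H)) (hd : 2 ∣ Nat.card H) : ∃ P : Sylow 2 PSL2, H = P := by
  have h2 : (2 : F) = 0 := by exact_mod_cast CharP.cast_eq_zero F 2
  obtain ⟨⟨s, hs⟩, ho⟩ := exists_prime_orderOf_dvd_card' 2 hd
  rw [Subgroup.orderOf_mk] at ho
  obtain ⟨g, α, hα, hg⟩ := exists_conj_u (p := 2) (x := s) (fun e => by rw [e, orderOf_one] at ho; omega)
    (by have h := pow_orderOf_eq_one s; rwa [ho] at h)
  have key := stab_eq_u h4 hH hb g hα (by rw [← hg]; simpa [mul_assoc] using hs)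
  have hset : (H : Set PSL2) = (fun t => g⁻¹ * u t * g) '' Set.univ := by
    ext z
    simp only [SetLike.mem_coe, Set.image_univ, Set.mem_range]
    constructor
    · intro hz
      obtain ⟨t, ht⟩ := (key (g * z * g⁻¹)).1 (by simpa [mul_assoc] using hz)
      exact ⟨t, by rw [← ht]; group⟩
    · rintro ⟨t, rfl⟩
      exact (key (u t)).2 ⟨t, rfl⟩
  have hinj : Function.Injective fun t : F => g⁻¹ * u t * g := fun a b e =>
    CfsgLib.Classical.uElt_injective (pr_injective h2 (mul_left_cancel (mul_right_cancel e)))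
  have hcard : Nat.card H = Fintype.card F := by
    rw [← SetLike.coe_sort_coe, Nat.card_coe_set_eq, hset, Set.ncard_image_of_injective _ hinj, Set.ncard_univ,
      Nat.card_eq_fintype_card]
  obtain ⟨a, ha⟩ := exists_card_eq_two_pow (F := F)
  obtain ⟨P, hP⟩ := (IsPGroup.of_card (n := a) (hcard.trans ha)).exists_le_sylow
  exact ⟨P, Subgroup.eq_of_le_of_card_ge hP (by rw [card_sylow_two, hcard])⟩

/-- Point stabilisers of odd order in binary actions in characteristic two. -/
theorem three_of_binary [CharP F 2] (h4 : 4 ≤ Fintype.card F) {H : Subgroup PSL2} (h0 : H ≠ ⊥)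
    (hb : IsBinary PSL2 (PSL2 ⧸ H)) (hd : ¬ 2 ∣ Nat.card H) :
    (∀ w : F, w * w + w + 1 ≠ 0) ∧ Nat.card H = 3 := by
  have h2 : (2 : F) = 0 := by exact_mod_cast CharP.cast_eq_zero F 2
  have heven : Even (Fintype.card F) := by
    obtain ⟨n, -, hn⟩ := FiniteField.card F 2
    exact even_iff_two_dvd.2 (hn ▸ dvd_pow_self 2 n.pos.ne')
  have hab : ∀ a ∈ H, ∀ b ∈ H, a * b = b * a := fun a ha b hb => abelian_of_odd hd hd ha hb
  have e := Subgroup.ext (mem_fix_one_iff H)
  obtain ⟨M, hMH, hM⟩ := exists_atom hb {((1 : PSL2) : PSL2 ⧸ H)} (by rwa [e])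
  rw [e] at hMH
  obtain ⟨-, hnw, htr⟩ := odd_atom_charTwo hM fun h => hd (h.trans (Subgroup.card_dvd_of_le hMH))
  obtain ⟨⟨x, hx⟩, hx'⟩ := M.ne_bot_iff_exists_ne_one.1 hM.ne_bot
  have hx1 : x ≠ 1 := fun e => hx' (Subtype.ext e)
  obtain ⟨X, rfl⟩ := Geom.SL2Anti.pr_surjective x
  have hX := htr X hx hx1
  have hTI : ∀ h ∈ H, h ≠ 1 → ∀ g : PSL2, g * h * g⁻¹ ∈ H → g ∈ Subgroup.normalizer (H : Set PSL2) := by
    intro h hh hh1 g hg
    have hCh : Subgroup.centralizer ({h} : Set PSL2) = Subgroup.centralizer {pr X} :=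
      Geom.Moebius.centralizer_eq_of_mem h4 heven hx1
        (Subgroup.mem_centralizer_singleton_iff.2 (hab _ hh _ (hMH hx))) hh1
    have hgh1 : g * h * g⁻¹ ≠ 1 := fun e => hh1 (by rwa [mul_inv_eq_one, mul_eq_left] at e)
    have hCg : Subgroup.centralizer ({g * h * g⁻¹} : Set PSL2) = Subgroup.centralizer {pr X} :=
      Geom.Moebius.centralizer_eq_of_mem h4 heven hx1
        (Subgroup.mem_centralizer_singleton_iff.2 (hab _ hg _ (hMH hx))) hgh1
    have hgx : g * pr X * g⁻¹ ∈ Subgroup.centralizer ({pr X} : Set PSL2) := by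
      rw [← hCg, Subgroup.mem_centralizer_singleton_iff]
      have e := hab _ (hMH hx) _ hh
      calc g * pr X * g⁻¹ * (g * h * g⁻¹) = g * (pr X * h) * g⁻¹ := by group
        _ = g * h * g⁻¹ * (g * pr X * g⁻¹) := by rw [e]; group
    obtain ⟨G0, rfl⟩ := Geom.SL2Anti.pr_surjective g
    have hY : ((G0 * X * G0⁻¹ : SL(2, F)) : M2).trace = 1 := by
      have := trace_conj G0⁻¹ X
      rw [inv_inv] at this
      rw [this, hX]
    have hc : Commute (G0 * X * G0⁻¹) X := pr_injective h2 (by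
      rw [map_mul, map_mul, map_mul, map_mul, map_inv]
      exact Subgroup.mem_centralizer_singleton_iff.1 hgx)
    have hns : ¬ CfsgLib.Classical.IsScalarSL X := fun ⟨_, _, h11⟩ => one_ne_zero (α := F) (by
      rw [← hX, trace_fin_two, ← h11]; linear_combination (X : M2) 0 0 * h2)
    have hpw : ∀ k ∈ H, pr G0 * k * (pr G0)⁻¹ ∈ H := by
      intro k hk
      obtain ⟨K, rfl⟩ := Geom.SL2Anti.pr_surjective k
      have hcK : Commute K X := pr_injective h2 (by rw [map_mul, map_mul]; exact hab _ hk _ (hMH hx))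
      obtain ⟨a, b, hK⟩ := CfsgLib.Classical.exists_coeff_of_commute hns hcK
      have hval : ((G0 * K * G0⁻¹ : SL(2, F)) : M2) =
          a • (1 : M2) + b • ((G0 * X * G0⁻¹ : SL(2, F)) : M2) := by
        simp only [Matrix.SpecialLinearGroup.coe_mul, hK, mul_add, add_mul, mul_smul_comm, smul_mul_assoc, mul_one]
        rw [← Matrix.SpecialLinearGroup.coe_mul G0 G0⁻¹, mul_inv_cancel, Matrix.SpecialLinearGroup.coe_one]
      rcases eq_or_of_commute_trace_one h2 hX hY hc with e | e <;> rw [e] at hval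
      · have : G0 * K * G0⁻¹ = K := Subtype.ext (hval.trans hK.symm)
        rw [← map_inv, ← map_mul, ← map_mul, this]
        exact hk
      · have : G0 * K * G0⁻¹ = K⁻¹ := by
          refine Subtype.ext (hval.trans ?_)
          rw [Matrix.SpecialLinearGroup.coe_inv, Matrix.SpecialLinearGroup.coe_inv, hK, Matrix.adjugate_fin_two,
            Matrix.adjugate_fin_two]
          ext i j
          fin_cases i <;> fin_cases j <;> simp
        rw [← map_inv, ← map_mul, ← map_mul, this, map_inv]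
        exact H.inv_mem hk
    have heq : H.map (MulAut.conj (pr G0)).toMonoidHom = H :=
      Subgroup.eq_of_le_of_card_ge (by rintro _ ⟨z, hz, rfl⟩; exact hpw z hz)
        (Nat.card_congr (H.equivMapOfInjective _ (MulAut.conj (pr G0)).injective).toEquiv).le
    rw [Subgroup.mem_normalizer_iff]
    intro z
    refine ⟨hpw z, fun hz => ?_⟩
    rw [← heq] at hz
    obtain ⟨w, hw, e⟩ := hz
    obtain rfl := (MulAut.conj (pr G0)).injective e
    exact hw
  obtain ⟨h3, -, -⟩ := odd_atom_charTwo (atom_of_TI H hb h0 hTI) hd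
  exact ⟨hnw, h3⟩

/-- Elements of order three have lifts of trace one in characteristic two. -/
theorem trace_of_cube (h2 : (2 : F) = 0) {X : SL(2, F)} (h3 : X * X * X = 1) (hne : X ≠ 1) :
    (X : M2).trace = 1 := by
  set t := (X : M2).trace with ht
  have hCH : (X : M2) * X = t • (X : M2) - 1 := by
    have hd := CfsgLib.Classical.slTwo_det X
    rw [ht, trace_fin_two]
    ext i j
    fin_cases i <;> fin_cases j <;>
      simp [Matrix.mul_apply, Fin.sum_univ_two] <;>
      first | linear_combination hd | linear_combination -hd | ring1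
  have h3' : (X : M2) * X * X = 1 := by
    rw [← Matrix.SpecialLinearGroup.coe_mul, ← Matrix.SpecialLinearGroup.coe_mul, h3, Matrix.SpecialLinearGroup.coe_one]
  have e : (t * t - 1) • (X : M2) = (t + 1) • (1 : M2) := by
    have h : (X : M2) * X * X = (t * t - 1) • (X : M2) - t • (1 : M2) := by
      rw [hCH, sub_mul, one_mul, smul_mul_assoc, hCH, smul_sub, smul_smul, sub_smul, one_smul]
      abel
    rw [h3'] at h
    rw [add_smul, one_smul]
    nth_rw 2 [h]
    abel
  by_contra hne1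
  have hu : t + 1 ≠ 0 := fun e => hne1 (by linear_combination e - h2)
  have hX : (X : M2) = (t + 1)⁻¹ • (1 : M2) := by
    have : t * t - 1 = (t + 1) * (t + 1) := by linear_combination -(t + 1) * h2
    rw [this] at e
    calc (X : M2) = ((t + 1) * (t + 1))⁻¹ • (((t + 1) * (t + 1)) • (X : M2)) :=
          (inv_smul_smul₀ (mul_ne_zero hu hu) _).symm
      _ = (t + 1)⁻¹ • (1 : M2) := by
          rw [e, smul_smul]
          congr 1
          field_simp
  have hd := CfsgLib.Classical.slTwo_det X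
  rw [hX] at hd
  simp at hd
  refine hne (Subtype.ext (hX.trans ?_))
  rcases mul_self_eq_one_iff.1 hd with h | h
  · rw [h, one_smul, Matrix.SpecialLinearGroup.coe_one]
  · rw [h, Matrix.SpecialLinearGroup.coe_one, show (-1 : F) = 1 by linear_combination -h2, one_smul]

/-- The coset action on a Sylow 2-subgroup is binary. -/
theorem binary_sylow [CharP F 2] (h4 : 4 ≤ Fintype.card F) (P : Sylow 2 PSL2) :
    IsBinary PSL2 (PSL2 ⧸ (P : Subgroup PSL2)) := by
  have h2 : (2 : F) = 0 := by exact_mod_cast CharP.cast_eq_zero F 2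
  have heven : Even (Fintype.card F) := by
    obtain ⟨n, -, hn⟩ := FiniteField.card F 2
    exact even_iff_two_dvd.2 (hn ▸ dvd_pow_self 2 n.pos.ne')
  obtain ⟨S0, hS0⟩ := CfsgLib.Classical.exists_sylow_uSL (F := F) (p := 2)
  let S : Sylow 2 PSL2 := S0.mapSurjective (Geom.SL2Anti.pr_surjective (F := F))
  have hS : (S : Subgroup PSL2) = (CfsgLib.Classical.uSL F).map pr := by rw [← hS0]; rfl
  obtain ⟨c, hc⟩ := MulAction.exists_smul_eq PSL2 P S
  have hmemS : ∀ z, z ∈ (S : Subgroup PSL2) ↔ ∃ t, u t = z := fun z => by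
    rw [hS]
    exact ⟨fun ⟨_, ⟨t, rfl⟩, e⟩ => ⟨t, e⟩, fun ⟨t, e⟩ => ⟨_, ⟨t, rfl⟩, e⟩⟩
  have hP : ∀ z, z ∈ (P : Subgroup PSL2) ↔ ∃ t, u t = c * z * c⁻¹ := fun z => by
    rw [← hmemS, ← hc, Sylow.coe_subgroup_smul]
    exact (Subgroup.smul_mem_pointwise_smul_iff (a := MulAut.conj c)).symm
  have hinv : ∀ z ∈ (P : Subgroup PSL2), z * z = 1 := fun z hz => by
    obtain ⟨t, ht⟩ := (hP z).1 hz
    have h : c * (z * z) * c⁻¹ = 1 := by
      rw [show c * (z * z) * c⁻¹ = (c * z * c⁻¹) * (c * z * c⁻¹) by group, ← ht, u_mul, ← two_mul, h2,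
        zero_mul, u_zero]
    rwa [mul_inv_eq_one, mul_eq_left] at h
  have hcomm : ∀ z ∈ (P : Subgroup PSL2), ∀ w ∈ (P : Subgroup PSL2), z * w = w * z := fun z hz w hw => by
    obtain ⟨t, ht⟩ := (hP z).1 hz
    obtain ⟨s, hs⟩ := (hP w).1 hw
    have := (commute_u t s).eq
    rw [ht, hs] at this
    calc z * w = c⁻¹ * ((c * z * c⁻¹) * (c * w * c⁻¹)) * c := by group
      _ = w * z := by rw [this]; group
  have hC : ∀ z ∈ (P : Subgroup PSL2), z ≠ 1 → ∀ w, w * z = z * w → w ∈ (P : Subgroup PSL2) := by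
    intro z hz hz1 w hw
    have hle : (P : Subgroup PSL2) ≤ Subgroup.centralizer ({z} : Set PSL2) := fun v hv =>
      Subgroup.mem_centralizer_singleton_iff.2 (hcomm v hv z hz)
    have hp : IsPGroup 2 (Subgroup.centralizer ({z} : Set PSL2)) := by
      intro v
      refine ⟨1, Subtype.ext ?_⟩
      obtain ⟨V, hV⟩ := Geom.SL2Anti.pr_surjective (c * (v : PSL2) * c⁻¹)
      obtain ⟨t, ht⟩ := (hP z).1 hz
      have hcV : Commute V (uElt t) := pr_injective h2 (by
        have e := Subgroup.mem_centralizer_singleton_iff.1 v.2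
        rw [map_mul, map_mul, hV, show (pr (uElt t) : PSL2) = c * z * c⁻¹ from ht]
        calc c * (v : PSL2) * c⁻¹ * (c * z * c⁻¹) = c * ((v : PSL2) * z) * c⁻¹ := by group
          _ = c * z * c⁻¹ * (c * v * c⁻¹) := by rw [e]; group)
      have ht0 : t ≠ 0 := fun e => hz1 (by
        rw [e, u_zero, eq_mul_inv_iff_mul_eq, one_mul] at ht
        exact mul_eq_left.1 ht.symm)
      have e00 := congrArg (fun A : SL(2, F) => (A : M2) 0 0) hcV.eq
      have e01 := congrArg (fun A : SL(2, F) => (A : M2) 0 1) hcV.eq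
      simp only [CfsgLib.Classical.slTwo_mul_apply, uElt_val] at e00 e01
      simp at e00 e01
      have h10 : (V : M2) 1 0 = 0 := by
        rcases e00 with h | h
        · exact absurd h ht0
        · exact h
      have h11 : (V : M2) 0 0 = (V : M2) 1 1 := mul_left_cancel₀ ht0 (by linear_combination e01)
      have hsq : V * V = 1 := by
        have hd := CfsgLib.Classical.slTwo_det V
        refine Subtype.ext ?_
        rw [Matrix.SpecialLinearGroup.coe_mul, Matrix.SpecialLinearGroup.coe_one]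
        rw [h10, ← h11] at hd
        ext i j
        fin_cases i <;> fin_cases j <;> simp [Matrix.mul_apply, Fin.sum_univ_two, h10, ← h11] <;>
          first | linear_combination hd | linear_combination (V : M2) 0 0 * (V : M2) 0 1 * h2
      have h := congrArg (pr : SL(2, F) → PSL2) hsq
      rw [map_mul, map_one, hV] at h
      rw [pow_one, SubmonoidClass.coe_pow, Subgroup.coe_one, sq]
      calc (v : PSL2) * v = c⁻¹ * ((c * v * c⁻¹) * (c * v * c⁻¹)) * c := by group
        _ = 1 := by rw [h]; group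
    rw [← P.is_maximal' hp hle]
    exact Subgroup.mem_centralizer_singleton_iff.2 hw
  refine isBinary_cosets _ ?_ ?_
  · intro x hx hx1 g hg
    have key : ∀ z ∈ (P : Subgroup PSL2), g * z * g⁻¹ ∈ (P : Subgroup PSL2) := fun z hz =>
      hC _ hg (fun e => hx1 (by rwa [mul_inv_eq_one, mul_eq_left] at e)) _ (by
        calc g * z * g⁻¹ * (g * x * g⁻¹) = g * (z * x) * g⁻¹ := by group
          _ = g * x * g⁻¹ * (g * z * g⁻¹) := by rw [hcomm z hz x hx]; group)
    rw [Subgroup.mem_normalizer_iff]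
    intro z
    refine ⟨key z, fun hz => ?_⟩
    have h1 : g⁻¹ * (g * z * g⁻¹) * g = z := by group
    rw [← h1]
    refine hC x hx hx1 _ ?_
    calc g⁻¹ * (g * z * g⁻¹) * g * x = g⁻¹ * ((g * z * g⁻¹) * (g * x * g⁻¹)) * g := by group
      _ = g⁻¹ * ((g * x * g⁻¹) * (g * z * g⁻¹)) * g := by rw [hcomm _ hz _ hg]
      _ = _ := by group
  · intro a b g h k ha hb hab ha1 hb1 _
    have sq : ∀ (g a : PSL2), g * a * g⁻¹ ∈ (P : Subgroup PSL2) → a * a = 1 := fun g a ha => by
      have := hinv _ ha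
      rw [show g * a * g⁻¹ * (g * a * g⁻¹) = g * (a * a) * g⁻¹ by group, mul_inv_eq_one, mul_eq_left] at this
      exact this
    have hba : a * b = b * a := by
      have e1 := inv_eq_of_mul_eq_one_right (sq g a ha)
      have e2 := inv_eq_of_mul_eq_one_right (sq h b hb)
      have e3 := inv_eq_of_mul_eq_one_right (sq k _ hab)
      rw [_root_.mul_inv_rev, e1, e2] at e3
      exact e3.symm
    refine ⟨g, ha, hC _ ha (fun e => ha1 (by rwa [mul_inv_eq_one, mul_eq_left] at e)) _ ?_⟩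
    calc g * b * g⁻¹ * (g * a * g⁻¹) = g * (b * a) * g⁻¹ := by group
      _ = g * a * g⁻¹ * (g * b * g⁻¹) := by rw [← hba]; group

/-- The coset action on a subgroup of order three is binary when there is no cube root of unity. -/
theorem binary_three [CharP F 2] (hnw : ∀ w : F, w * w + w + 1 ≠ 0) (H : Subgroup PSL2) (h3 : Nat.card H = 3) :
    IsBinary PSL2 (PSL2 ⧸ H) := by
  have h2 : (2 : F) = 0 := by exact_mod_cast CharP.cast_eq_zero F 2
  have hz : ∀ x ∈ H, x ≠ 1 → Subgroup.zpowers x = H := fun x hx hx1 => by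
    refine Subgroup.eq_of_le_of_card_ge (Subgroup.zpowers_le.2 hx) ?_
    rw [Nat.card_zpowers, h3]
    rcases (Nat.dvd_prime Nat.prime_three).1 (h3 ▸ Subgroup.orderOf_dvd_natCard H hx) with h | h
    · exact absurd (orderOf_eq_one_iff.1 h) hx1
    · exact h.ge
  refine isBinary_cosets H ?_ ?_
  · intro x hx hx1 g hg
    have hg1 : g * x * g⁻¹ ≠ 1 := fun e => hx1 (by rwa [mul_inv_eq_one, mul_eq_left] at e)
    have heq : H.map (MulAut.conj g).toMonoidHom = H := by
      conv_lhs => rw [← hz x hx hx1, MonoidHom.map_zpowers]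
      exact hz _ hg hg1
    rw [Subgroup.mem_normalizer_iff]
    intro z
    constructor
    · intro hzH
      rw [← heq]
      exact ⟨z, hzH, rfl⟩
    · intro hzH
      rw [← heq] at hzH
      obtain ⟨w, hw, e⟩ := hzH
      obtain rfl := (MulAut.conj g).injective e
      exact hw
  · intro a b g h k ha hb hab ha1 hb1 hab1
    have tr1 : ∀ (g : PSL2) (A : SL(2, F)), g * pr A * g⁻¹ ∈ H → pr A ≠ (1 : PSL2) → (A : M2).trace = 1 := by
      intro g A hA hA1
      refine trace_of_cube h2 (pr_injective h2 ?_) fun e => hA1 (by rw [e, map_one])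
      have h' : (g * pr A * g⁻¹) ^ 3 = 1 :=
        orderOf_dvd_iff_pow_eq_one.1 (h3 ▸ Subgroup.orderOf_dvd_natCard H hA)
      rw [conj_pow, mul_inv_eq_one, mul_eq_left, pow_three] at h'
      rw [map_mul, map_mul, map_one, mul_assoc]
      exact h'
    obtain ⟨A, rfl⟩ := Geom.SL2Anti.pr_surjective a
    obtain ⟨B, rfl⟩ := Geom.SL2Anti.pr_surjective b
    have e : B = A := trace_one_triangle h2 hnw A B (tr1 g A ha ha1) (tr1 h B hb hb1)
      (tr1 k _ (by rw [map_mul]; exact hab) (by rw [map_mul]; exact hab1))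
    subst e
    exact ⟨g, ha, ha⟩

theorem binary_bot (H : Subgroup PSL2) (h : H = ⊥) : IsBinary PSL2 (PSL2 ⧸ H) := by
  subst h
  refine isBinary_cosets _ (fun x hx hx1 => absurd (Subgroup.mem_bot.1 hx) hx1) ?_
  intro a b g h k ha _ _ ha1
  rw [Subgroup.mem_bot, mul_inv_eq_one, mul_eq_left] at ha
  exact absurd ha ha1

theorem no_root_iff [CharP F 2] {a : ℕ} (ha : Fintype.card F = 2 ^ a) :
    (∀ w : F, w * w + w + 1 ≠ 0) ↔ Odd a := by
  have h2 : (2 : F) = 0 := by exact_mod_cast CharP.cast_eq_zero F 2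
  constructor
  · intro h
    by_contra hodd
    rw [Nat.not_odd_iff_even] at hodd
    obtain ⟨m, hm⟩ := hodd
    have h3 : 3 ∣ Nat.card Fˣ := by
      rw [Nat.card_units, Nat.card_eq_fintype_card, ha, show a = 2 * m by omega, pow_mul]
      simpa using Nat.sub_dvd_pow_sub_pow 4 1 m
    obtain ⟨z, hz⟩ := exists_prime_orderOf_dvd_card' 3 h3
    have hz3 : (z : F) ^ 3 = 1 := by
      have := pow_orderOf_eq_one z
      rw [hz] at this
      rw [← Units.val_pow_eq_pow_val, this, Units.val_one]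
    have hz1 : (z : F) - 1 ≠ 0 := sub_ne_zero.2 fun e => by
      rw [Units.val_eq_one] at e
      rw [e, orderOf_one] at hz
      omega
    refine h (z : F) ((mul_eq_zero.1 (show ((z : F) - 1) * ((z : F) * z + z + 1) = 0 by
      linear_combination hz3)).resolve_left hz1)
  · intro hodd w hw
    have hw0 : w ≠ 0 := fun e => by rw [e] at hw; simp at hw
    have hw3 : (Units.mk0 w hw0) ^ 3 = 1 := Units.ext (by
      rw [Units.val_pow_eq_pow_val, Units.val_mk0, Units.val_one]
      linear_combination (w - 1) * hw)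
    have hw1 : Units.mk0 w hw0 ≠ 1 := fun e => by
      have : w = 1 := congrArg Units.val e
      rw [this] at hw
      exact one_ne_zero (α := F) (by linear_combination hw - h2)
    have h3 : 3 ∣ Nat.card Fˣ := (orderOf_eq_prime hw3 hw1) ▸ orderOf_dvd_natCard _
    rw [Nat.card_units, Nat.card_eq_fintype_card, ha] at h3
    obtain ⟨m, rfl⟩ := hodd
    have h4 : 3 ∣ 4 ^ m - 1 := by simpa using Nat.sub_dvd_pow_sub_pow 4 1 m
    have hp : 2 ^ (2 * m + 1) = 2 * 4 ^ m := by rw [pow_succ, pow_mul]; norm_num [mul_comm]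
    have := Nat.one_le_pow m 4 (by norm_num)
    rw [hp] at h3
    omega

/-- The binary coset actions of `PSL_2(q)`. -/
theorem binary_iff (h4 : 4 ≤ Fintype.card F) (h5 : Fintype.card F ≠ 5) (H : Subgroup PSL2) (hH : H ≠ ⊤) :
    IsBinary PSL2 (PSL2 ⧸ H) ↔
      (H = ⊥ ∨ ((∃ a : ℕ, Fintype.card F = 2 ^ a) ∧ ∃ P : Sylow 2 PSL2, H = P) ∨
        ((∃ a : ℕ, Odd a ∧ Fintype.card F = 2 ^ a) ∧ Nat.card H = 3)) := by
  obtain ⟨p, hp⟩ := CharP.exists F
  obtain ⟨n, hprime, hn⟩ := FiniteField.card F p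
  have := Fact.mk hprime
  have hp2 : ∀ a : ℕ, Fintype.card F = 2 ^ a → p = 2 := fun a ha => by
    have : p ∣ 2 ^ a := ha ▸ hn ▸ dvd_pow_self p n.pos.ne'
    exact (Nat.prime_dvd_prime_iff_eq hprime Nat.prime_two).1 (hprime.dvd_of_dvd_pow this)
  constructor
  · intro hb
    by_cases h0 : H = ⊥
    · exact Or.inl h0
    right
    rcases eq_or_ne p 2 with rfl | hne
    · by_cases hd : 2 ∣ Nat.card H
      · exact Or.inl ⟨exists_card_eq_two_pow, sylow_of_binary h4 hH hb hd⟩
      · obtain ⟨hnw, h3⟩ := three_of_binary h4 h0 hb hd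
        exact Or.inr ⟨⟨n, (no_root_iff hn).1 hnw, hn⟩, h3⟩
    · exfalso
      have hodd : Odd (Fintype.card F) := hn ▸ (hprime.odd_of_ne_two hne).pow
      obtain ⟨m, hm⟩ := hodd
      have e := Subgroup.ext (mem_fix_one_iff H)
      obtain ⟨M, hMH, hM⟩ := exists_atom hb {((1 : PSL2) : PSL2 ⧸ H)} (by rwa [e])
      rw [e] at hMH
      exact no_atom_odd (p := p) (by omega) hne hM fun h => hH (top_le_iff.1 (h ▸ hMH))
  · rintro (h | ⟨⟨a, ha⟩, P, rfl⟩ | ⟨⟨a, hodd, ha⟩, h3⟩)
    · exact binary_bot H h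
    · obtain rfl := hp2 a ha
      exact binary_sylow h4 P
    · obtain rfl := hp2 a ha
      exact binary_three ((no_root_iff ha).2 hodd) H h3

end CfsgLib.Binary.PSLTwo
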